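import Groth.Agent.FrobHLib.Poly
import Mathlib.Tactic.LinearCombination

/-!
# Sections on two charts cut out by forms
-/

set_option autoImplicit false

universe u

namespace FrobHLib

open Polynomial Finset
open LaurentPolynomial (T invert)

variable {A : Type u} [CommRing A] (f₁ f₂ : A)

/-- A finite stage of the two charts. -/
structure Stage where
  D : ℕ
  S : Set A[X]
  form : ∀ p ∈ S, IsForm f₁ f₂ D p
  eqn₁ : eqn f₁ f₂ ∈ Ideal.span S
  eqn₂ : eqn f₂ f₁ ∈ Ideal.span (Polynomial.reflect D '' S)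

variable {f₁ f₂} (G : Stage f₁ f₂)

namespace Stage

/-- The first chart. -/
noncomputable def J₁ : Ideal A[X] := Ideal.span G.S

/-- The second chart. -/
noncomputable def J₂ : Ideal A[X] := Ideal.span (Polynomial.reflect G.D '' G.S)

/-- The overlap. -/
noncomputable def J₀ : Ideal (LaurentPolynomial A) := Ideal.span (toLaurent '' G.S)

theorem split {x : LaurentPolynomial A} (hx : x ∈ G.J₀) {N : ℕ} (hN : G.D ≤ N) :
    ∃ a ∈ G.J₁, ∃ b ∈ G.J₂, x = toLaurent a - T (N : ℤ) * ι₂ b := by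
  unfold J₀ at hx
  induction hx using Submodule.span_induction with
  | zero => exact ⟨0, zero_mem _, 0, zero_mem _, by simp⟩
  | add x y _ _ hx hy =>
    obtain ⟨a, ha, b, hb, rfl⟩ := hx
    obtain ⟨a', ha', b', hb', rfl⟩ := hy
    exact ⟨a + a', add_mem ha ha', b + b', add_mem hb hb', by rw [map_add, map_add, mul_add]; ring⟩
  | mem x hx =>
    obtain ⟨p, hp, rfl⟩ := hx
    exact ⟨p, Ideal.subset_span hp, 0, zero_mem _, by simp⟩
  | smul r x _ hx =>
    obtain ⟨a, ha, b, hb, rfl⟩ := hx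
    rw [smul_eq_mul]
    have key : ∀ (r : LaurentPolynomial A), ∀ a ∈ G.J₁,
        ∃ a' ∈ G.J₁, ∃ b' ∈ G.J₂, r * toLaurent a = toLaurent a' - T (N : ℤ) * ι₂ b' := by
      intro r a ha
      induction r using LaurentPolynomial.induction_on' with
      | add r s hr hs =>
        obtain ⟨a1, h1, b1, h1', e1⟩ := hr
        obtain ⟨a2, h2, b2, h2', e2⟩ := hs
        exact ⟨a1 + a2, add_mem h1 h2, b1 + b2, add_mem h1' h2', by rw [add_mul, e1, e2, map_add, map_add, mul_add]; ring⟩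
      | C_mul_T n c =>
        unfold J₁ at ha
        induction ha using Submodule.span_induction generalizing n c with
        | zero => exact ⟨0, zero_mem _, 0, zero_mem _, by simp⟩
        | add x y _ _ hx hy =>
          obtain ⟨a1, h1, b1, h1', e1⟩ := hx n c
          obtain ⟨a2, h2, b2, h2', e2⟩ := hy n c
          exact ⟨a1 + a2, add_mem h1 h2, b1 + b2, add_mem h1' h2', by rw [map_add, mul_add, e1, e2, map_add, map_add, mul_add]; ring⟩
        | mem p hp =>
          rcases le_or_gt 0 n with hn | hn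
          · refine ⟨Polynomial.C c * X ^ n.toNat * p, Ideal.mul_mem_left _ _ (Ideal.subset_span hp), 0, zero_mem _, ?_⟩
            rw [map_zero, mul_zero, sub_zero, map_mul, toLaurent_C_mul_X_pow, Int.toNat_of_nonneg hn]
          · refine ⟨0, zero_mem _, -(Polynomial.C c * X ^ ((N : ℤ) - G.D - n).toNat * Polynomial.reflect G.D p),
              neg_mem (Ideal.mul_mem_left _ _ (Ideal.subset_span ⟨p, hp, rfl⟩)), ?_⟩
            rw [map_zero, map_neg, map_mul, map_mul, map_pow, ι₂_C, ι₂_X, ι₂_reflect (G.form p hp).1,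
              LaurentPolynomial.T_pow, Int.toNat_of_nonneg (by omega)]
            rw [show n = (N : ℤ) + (((N : ℤ) - G.D - n) * -1 + -(G.D : ℤ)) by ring, LaurentPolynomial.T_add,
              LaurentPolynomial.T_add]
            rw [show (N : ℤ) - G.D - ((N : ℤ) + (((N : ℤ) - G.D - n) * -1 + -(G.D : ℤ))) = (N : ℤ) - G.D - n by ring]
            ring
        | smul q x _ hx =>
          have hsum : ∀ q : A[X], ∀ n c, ∃ a' ∈ G.J₁, ∃ b' ∈ G.J₂,
              LaurentPolynomial.C c * T n * toLaurent (q * x) = toLaurent a' - T (N : ℤ) * ι₂ b' := by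
            intro q
            induction q using Polynomial.induction_on' with
            | add q r hq hr =>
              intro n c
              obtain ⟨a1, h1, b1, h1', e1⟩ := hq n c
              obtain ⟨a2, h2, b2, h2', e2⟩ := hr n c
              exact ⟨a1 + a2, add_mem h1 h2, b1 + b2, add_mem h1' h2', by rw [add_mul, map_add, mul_add, e1, e2, map_add, map_add, mul_add]; ring⟩
            | monomial k d =>
              intro n c
              obtain ⟨a1, h1, b1, h1', e1⟩ := hx (n + k) (c * d)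
              refine ⟨a1, h1, b1, h1', ?_⟩
              rw [← e1, ← C_mul_X_pow_eq_monomial, map_mul, toLaurent_C_mul_X_pow, LaurentPolynomial.T_add, map_mul]
              ring
          exact hsum q n c
    obtain ⟨a1, h1, b1, h1', e1⟩ := key r a ha
    -- the part in the second chart
    have key2 : ∀ r : LaurentPolynomial A, ∀ b ∈ G.J₂, r * (T (N : ℤ) * ι₂ b) ∈ G.J₀ := by
      intro r b hb
      refine Ideal.mul_mem_left _ _ (Ideal.mul_mem_left _ _ ?_)
      have : G.J₂ ≤ G.J₀.comap ι₂ := by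
        refine Ideal.span_le.2 ?_
        rintro _ ⟨p, hp, rfl⟩
        show ι₂ _ ∈ G.J₀
        rw [ι₂_reflect (G.form p hp).1]
        exact Ideal.mul_mem_left _ _ (Ideal.subset_span ⟨p, hp, rfl⟩)
      exact this hb
    have key3 : ∀ (r : LaurentPolynomial A), ∀ b ∈ G.J₂,
        ∃ a' ∈ G.J₁, ∃ b' ∈ G.J₂, r * (T (N : ℤ) * ι₂ b) = toLaurent a' - T (N : ℤ) * ι₂ b' := by
      intro r b hb
      unfold J₂ at hb
      induction hb using Submodule.span_induction generalizing r with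
      | zero => exact ⟨0, zero_mem _, 0, zero_mem _, by simp⟩
      | add x y _ _ hx hy =>
        obtain ⟨a1, h1, b1, h1', e1⟩ := hx r
        obtain ⟨a2, h2, b2, h2', e2⟩ := hy r
        exact ⟨a1 + a2, add_mem h1 h2, b1 + b2, add_mem h1' h2', by rw [map_add, mul_add, mul_add, e1, e2, map_add, map_add, mul_add]; ring⟩
      | mem q hq =>
        obtain ⟨p, hp, rfl⟩ := hq
        obtain ⟨a1, h1, b1, h1', e1⟩ := key (r * T ((N : ℤ) - G.D)) p (Ideal.subset_span hp)
        refine ⟨a1, h1, b1, h1', ?_⟩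
        rw [← e1, ι₂_reflect (G.form p hp).1, LaurentPolynomial.T_sub]
        ring
      | smul q x _ hx =>
        obtain ⟨a1, h1, b1, h1', e1⟩ := hx (r * ι₂ q)
        refine ⟨a1, h1, b1, h1', ?_⟩
        rw [← e1, smul_eq_mul, map_mul]
        ring
    obtain ⟨a2, h2, b2, h2', e2⟩ := key3 r b hb
    exact ⟨a1 - a2, sub_mem h1 h2, b1 - b2, sub_mem h1' h2', by rw [mul_sub, e1, e2, map_sub, map_sub]; ring⟩

/-- Compatible multiples of the generators have powers coming from scalars. -/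
theorem exists_scalar {Q₁ Q₂ : A[X]}
    (h : toLaurent (Polynomial.C f₁ * Q₁) - ι₂ (Polynomial.C f₂ * Q₂) ∈ G.J₀) {N : ℕ} (hN : G.D + 2 ≤ N) :
    ∃ α ∈ Ideal.span {f₁, f₂}, (Polynomial.C f₁ * Q₁) ^ N - Polynomial.C α ∈ G.J₁ ∧
      (Polynomial.C f₂ * Q₂) ^ N - Polynomial.C α ∈ G.J₂ := by
  obtain ⟨M, rfl⟩ : ∃ M, N = M + 1 := ⟨N - 1, by omega⟩
  let a := toLaurent Q₁
  let b := T (1 : ℤ) * ι₂ Q₂
  let F₁ : LaurentPolynomial A := LaurentPolynomial.C f₁
  let F₂ : LaurentPolynomial A := LaurentPolynomial.C f₂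
  have hg : F₁ * T (1 : ℤ) - F₂ ∈ G.J₀ := by
    have h1 : G.J₁ ≤ G.J₀.comap toLaurent := Ideal.span_le.2 fun p hp => Ideal.subset_span ⟨p, hp, rfl⟩
    have := h1 G.eqn₁
    rw [Ideal.mem_comap, eqn, map_sub, map_mul, toLaurent_C, toLaurent_X, toLaurent_C] at this
    exact this
  rw [map_mul, map_mul, toLaurent_C, ι₂_C] at h
  have h2 : F₁ * (a - b) ∈ G.J₀ := by
    have := sub_mem h (Ideal.mul_mem_right (ι₂ Q₂) _ hg)
    convert this using 1
    simp only [F₁, F₂, a, b]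
    ring
  have hΔ : toLaurent (Polynomial.C f₁ * Q₁ ^ (M + 1)) - T (M : ℤ) * ι₂ (Polynomial.C f₂ * Q₂ ^ (M + 1)) ∈ G.J₀ := by
    obtain ⟨r, hr⟩ := sub_dvd_pow_sub_pow a b (M + 1)
    have := add_mem (Ideal.mul_mem_right r _ h2) (Ideal.mul_mem_right (T (M : ℤ) * ι₂ Q₂ ^ (M + 1)) _ hg)
    convert this using 1
    rw [mul_assoc, ← hr]
    simp only [F₁, F₂, a, b, map_mul, map_pow, toLaurent_C, ι₂_C]
    rw [mul_pow, LaurentPolynomial.T_pow, show ((M + 1 : ℕ) : ℤ) * 1 = 1 + (M : ℤ) by push_cast; ring, LaurentPolynomial.T_add]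
    ring
  obtain ⟨a₁, ha₁, a₂, ha₂, hsp⟩ := G.split hΔ (show G.D ≤ M by omega)
  let H := Polynomial.C f₁ * Q₁ ^ (M + 1) - a₁
  let H₂ := Polynomial.C f₂ * Q₂ ^ (M + 1) - a₂
  have heq : toLaurent H = T (M : ℤ) * ι₂ H₂ := by
    simp only [H, H₂, map_sub, mul_sub]
    linear_combination hsp
  have hdeg : H.natDegree ≤ M := natDegree_le_iff_coeff_eq_zero.2 fun i hi => coeff_eq_zero_of_eq heq i (by omega)
  have hH₂ : H₂ = Polynomial.reflect M H := by
    refine ι₂_injective ?_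
    rw [ι₂_reflect hdeg, heq, ← mul_assoc, ← LaurentPolynomial.T_add]
    simp
  refine ⟨val f₁ f₂ M H, ?_, ?_, ?_⟩
  · refine Submodule.sum_mem _ fun i hi => ?_
    rw [mem_range] at hi
    by_cases h0 : i = 0
    · subst h0
      exact Ideal.mul_mem_left _ _ (Ideal.pow_mem_of_mem _ (Ideal.subset_span (by simp)) _ (by omega))
    · exact Ideal.mul_mem_right _ _ (Ideal.mul_mem_left _ _ (Ideal.pow_mem_of_mem _ (Ideal.subset_span (by simp)) _ (by omega)))
  · have h3 : Ideal.span {eqn f₁ f₂} ≤ G.J₁ := (Ideal.span_singleton_le_iff_mem _).2 G.eqn₁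
    have := add_mem (Ideal.mul_mem_left G.J₁ (Polynomial.C f₁ ^ M) ha₁) (h3 (congr_val hdeg))
    convert this using 1
    simp only [H, mul_pow, pow_succ]
    ring
  · have h3 : Ideal.span {eqn f₂ f₁} ≤ G.J₂ := (Ideal.span_singleton_le_iff_mem _).2 G.eqn₂
    have hdeg₂ : H₂.natDegree ≤ M := by
      rw [hH₂]
      refine natDegree_le_iff_coeff_eq_zero.2 fun i hi => ?_
      rw [coeff_reflect]
      simp only [revAt, Function.Embedding.coeFn_mk, if_neg (show ¬ i ≤ M by omega)]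
      exact coeff_eq_zero_of_natDegree_lt (hdeg.trans_lt hi)
    have h4 := congr_val (f₁ := f₂) (f₂ := f₁) hdeg₂
    rw [show val f₂ f₁ M H₂ = val f₁ f₂ M H by rw [hH₂, val_reflect]] at h4
    have := add_mem (Ideal.mul_mem_left G.J₂ (Polynomial.C f₂ ^ M) ha₂) (h3 h4)
    convert this using 1
    simp only [H₂, mul_pow, pow_succ]
    ring

/-- Scalars in the ideal which vanish on both charts are nilpotent to a fixed order. -/
theorem pow_eq_zero {x : A} (hx : x ∈ Ideal.span {f₁, f₂}) (h₁ : Polynomial.C x ∈ G.J₁) (h₂ : Polynomial.C x ∈ G.J₂) :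
    x ^ (4 * G.D + 2) = 0 := by
  have k₁ : ∀ z ∈ G.J₁, Polynomial.C f₁ ^ G.D * z ∈ Ideal.span {eqn f₁ f₂} := by
    intro z hz
    induction hz using Submodule.span_induction with
    | zero => simp
    | add a b _ _ ha hb => rw [mul_add]; exact add_mem ha hb
    | mem p hp => exact (G.form p hp).mul_mem
    | smul r a _ ha => rw [smul_eq_mul, mul_left_comm]; exact Ideal.mul_mem_left _ _ ha
  have k₂ : ∀ z ∈ G.J₂, Polynomial.C f₂ ^ G.D * z ∈ Ideal.span {eqn f₂ f₁} := by
    intro z hz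
    induction hz using Submodule.span_induction with
    | zero => simp
    | add a b _ _ ha hb => rw [mul_add]; exact add_mem ha hb
    | mem q hq =>
      obtain ⟨p, hp, rfl⟩ := hq
      exact (G.form p hp).reflect.mul_mem
    | smul r a _ ha => rw [smul_eq_mul, mul_left_comm]; exact Ideal.mul_mem_left _ _ ha
  have sq : ∀ (y : A), Polynomial.C y ∈ Ideal.span {eqn f₁ f₂} → Polynomial.C y ∈ Ideal.span {eqn f₂ f₁} → y * y = 0 := by
    intro y hy1 hy2
    obtain ⟨R₁, hR₁⟩ := Ideal.mem_span_singleton.1 hy1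
    obtain ⟨R₂, hR₂⟩ := Ideal.mem_span_singleton.1 hy2
    have e1 := congrArg toLaurent hR₁
    have e2 := congrArg ι₂ hR₂
    rw [toLaurent_C, map_mul, eqn, map_sub, map_mul, toLaurent_C, toLaurent_X, toLaurent_C] at e1
    rw [ι₂_C, map_mul, eqn, map_sub, map_mul, ι₂_C, ι₂_X, ι₂_C] at e2
    have hT : (T (1 : ℤ) : LaurentPolynomial A) * T (-1) = 1 := by
      rw [← LaurentPolynomial.T_add]; simp
    have e3 : toLaurent (Polynomial.C y * R₁) = T (-1 : ℤ) * ι₂ (-(Polynomial.C y * R₂)) := by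
      rw [map_mul, map_neg, map_mul, toLaurent_C, ι₂_C]
      linear_combination (toLaurent R₁) * e2 + (T (-1) * ι₂ R₂) * e1 + (LaurentPolynomial.C f₁ * ι₂ R₂ * toLaurent R₁) * hT
    have e4 : Polynomial.C y * R₁ = 0 := Polynomial.ext fun i => by
      rw [Polynomial.coeff_zero]
      exact coeff_eq_zero_of_eq e3 i (by omega)
    have e5 : Polynomial.C (y * y) = 0 := by
      rw [map_mul]
      calc Polynomial.C y * Polynomial.C y = Polynomial.C y * (eqn f₁ f₂ * R₁) := by rw [← hR₁]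
        _ = eqn f₁ f₂ * (Polynomial.C y * R₁) := by ring
        _ = 0 := by rw [e4, mul_zero]
    exact Polynomial.C_eq_zero.1 e5
  have tr : ∀ (g₁ g₂ z : A), Polynomial.C (g₂ ^ G.D * z) ∈ Ideal.span {eqn g₂ g₁} →
      Polynomial.C (g₁ ^ G.D * z) ∈ Ideal.span {eqn g₂ g₁} := by
    intro g₁ g₂ z hz
    have hd : (Polynomial.C g₂ * X) ^ G.D - Polynomial.C g₁ ^ G.D ∈ Ideal.span {eqn g₂ g₁} :=
      Ideal.mem_span_singleton.2 (sub_dvd_pow_sub_pow _ _ _)
    have h := sub_mem (Ideal.mul_mem_left _ ((X : A[X]) ^ G.D) hz) (Ideal.mul_mem_right (Polynomial.C z) _ hd)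
    convert h using 1
    simp only [map_mul, map_pow, mul_pow]
    ring
  have m₁ : Polynomial.C (f₁ ^ G.D * x) ∈ Ideal.span {eqn f₁ f₂} := by
    rw [map_mul, map_pow]; exact k₁ _ h₁
  have m₂ : Polynomial.C (f₂ ^ G.D * x) ∈ Ideal.span {eqn f₂ f₁} := by
    rw [map_mul, map_pow]; exact k₂ _ h₂
  have z₁ := sq _ m₁ (tr f₁ f₂ x m₂)
  have z₂ := sq _ (tr f₂ f₁ x m₁) m₂
  obtain ⟨a, b, rfl⟩ := Ideal.mem_span_pair.1 hx
  let K : Ideal A := LinearMap.ker (LinearMap.mulRight A ((a * f₁ + b * f₂) ^ 2))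
  have hK : ∀ w, w ∈ K ↔ w * (a * f₁ + b * f₂) ^ 2 = 0 := fun w => Iff.rfl
  have hsum : (a * f₁ + b * f₂) ^ (4 * G.D) ∈ K := by
    refine Ideal.add_pow_mem_of_pow_mem_of_le (m := 2 * G.D) (n := 2 * G.D) K ?_ ?_ (by omega)
    · rw [hK, mul_pow, show a ^ (2 * G.D) * f₁ ^ (2 * G.D) * (a * f₁ + b * f₂) ^ 2 =
        a ^ (2 * G.D) * (f₁ ^ G.D * (a * f₁ + b * f₂) * (f₁ ^ G.D * (a * f₁ + b * f₂))) by ring, z₁, mul_zero]
    · rw [hK, mul_pow, show b ^ (2 * G.D) * f₂ ^ (2 * G.D) * (a * f₁ + b * f₂) ^ 2 =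
        b ^ (2 * G.D) * (f₂ ^ G.D * (a * f₁ + b * f₂) * (f₂ ^ G.D * (a * f₁ + b * f₂))) by ring, z₂, mul_zero]
  rw [pow_add]
  exact (hK _).1 hsum

end Stage

end FrobHLib
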