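import Groth.Agent.BlowUpLib.Props
import Groth.Agent.S4666

/-!
# Points of an affine scheme with values in a ring
-/

set_option autoImplicit false
set_option backward.isDefEq.respectTransparency false
set_option backward.isDefEq.respectTransparency.types false

universe u

open CategoryTheory CategoryTheory.Limits AlgebraicGeometry Opposite

noncomputable section

namespace FrobHLib

variable {B C : Type u} [CommRing B] [CommRing C] {Y X : Scheme.{u}}

/-- Global functions evaluated along a morphism from the spectrum of a ring. -/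
def evAt (g : Spec (CommRingCat.of C) ⟶ Y) : Γ(Y, ⊤) →+* C :=
  (g.appTop ≫ (Scheme.ΓSpecIso (CommRingCat.of C)).hom).hom

theorem evAt_comp (g : Spec (CommRingCat.of C) ⟶ Y) (b : Y ⟶ X) (x : Γ(X, ⊤)) :
    evAt (g ≫ b) x = evAt g (b.appTop x) := by
  simp [evAt]

theorem evAt_comp_ringHom (g : Spec (CommRingCat.of C) ⟶ Y) (b : Y ⟶ X) :
    evAt (g ≫ b) = (evAt g).comp b.appTop.hom := RingHom.ext (evAt_comp g b)

theorem evAt_map (φ : C →+* B) (g : Spec (CommRingCat.of C) ⟶ Y) :
    evAt (Spec.map (CommRingCat.ofHom φ) ≫ g) = φ.comp (evAt g) := by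
  have h : (Spec.map (CommRingCat.ofHom φ) ≫ g).appTop ≫ (Scheme.ΓSpecIso (CommRingCat.of B)).hom =
      (g.appTop ≫ (Scheme.ΓSpecIso (CommRingCat.of C)).hom) ≫ CommRingCat.ofHom φ := by
    rw [Scheme.Hom.comp_appTop, Category.assoc, Scheme.ΓSpecIso_naturality, Category.assoc]
  exact congrArg CommRingCat.Hom.hom h

variable [IsAffine X]

/-- The point of an affine scheme given by a ring map. -/
def toX (φ : Γ(X, ⊤) →+* C) : Spec (CommRingCat.of C) ⟶ X :=
  Spec.map (CommRingCat.ofHom φ) ≫ X.isoSpec.inv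

theorem toX_evAt (g : Spec (CommRingCat.of C) ⟶ X) : toX (evAt g) = g := by
  rw [toX, ← cancel_mono X.isoSpec.hom, Category.assoc, Iso.inv_hom_id, Category.comp_id, Scheme.isoSpec_hom,
    Scheme.toSpecΓ_naturality, evAt]
  show Spec.map (g.appTop ≫ (Scheme.ΓSpecIso (CommRingCat.of C)).hom) = _
  rw [Spec.map_comp, SpecMap_ΓSpecIso_hom]

theorem evAt_toX (φ : Γ(X, ⊤) →+* C) : evAt (toX φ) = φ := by
  have h : CommRingCat.ofHom (evAt (toX φ)) = CommRingCat.ofHom φ := by
    refine Spec.map_injective ?_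
    rw [← cancel_mono X.isoSpec.inv]
    exact toX_evAt (toX φ)
  exact congrArg CommRingCat.Hom.hom h

theorem map_toX (φ : Γ(X, ⊤) →+* C) (ψ : C →+* B) :
    Spec.map (CommRingCat.ofHom ψ) ≫ toX φ = toX (ψ.comp φ) := by
  rw [toX, toX, ← Category.assoc, ← Spec.map_comp, ← CommRingCat.ofHom_comp]

theorem eq_toX {g : Spec (CommRingCat.of C) ⟶ X} {φ : Γ(X, ⊤) →+* C} (h : evAt g = φ) : g = toX φ := by
  rw [← h, toX_evAt]

/-- Ideals pulled back along points. -/
theorem comap_eq_specIdeal (K : X.IdealSheafData) (g : Spec (CommRingCat.of C) ⟶ X) :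
    K.comap g = BlowUpLib.specIdeal ((K.ideal ⟨⊤, isAffineOpen_top X⟩).map (evAt g)) := by
  refine Scheme.IdealSheafData.ext_of_isAffine ?_
  rw [BlowUpLib.specIdeal_top, Groth.Agent.S4666.ideal_comap_eq K g ⟨⊤, isAffineOpen_top X⟩ ⟨⊤, isAffineOpen_top _⟩ le_rfl,
    Ideal.map_map]
  congr 1
  refine RingHom.ext fun x => ?_
  show (g.appLE ⊤ ⊤ _).hom x = (Scheme.ΓSpecIso _).inv ((Scheme.ΓSpecIso _).hom (g.appTop x))
  rw [Scheme.Hom.appLE]
  simp [Scheme.Hom.appTop]

theorem isEffCartier_toX (K : X.IdealSheafData) (φ : Γ(X, ⊤) →+* C) {f : C} (hf : f ∈ nonZeroDivisors C)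
    (h : (K.ideal ⟨⊤, isAffineOpen_top X⟩).map φ = Ideal.span {f}) : BlowUp.IsEffCartierIdeal (K.comap (toX φ)) := by
  rw [comap_eq_specIdeal, evAt_toX, h]
  exact BlowUpLib.isEffCartier_specIdeal hf

theorem notMem_support (K : X.IdealSheafData) (φ : Γ(X, ⊤) →+* C)
    (h : (K.ideal ⟨⊤, isAffineOpen_top X⟩).map φ = ⊤) (w : Spec (CommRingCat.of C)) :
    toX φ w ∉ (K.support : Set X) := by
  intro hw
  have h1 : w ∈ ((K.comap (toX φ)).support : Set (Spec (CommRingCat.of C))) := by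
    rw [Scheme.IdealSheafData.support_comap]; exact hw
  rw [comap_eq_specIdeal, evAt_toX, h] at h1
  have h2 : BlowUpLib.specIdeal (⊤ : Ideal C) = ⊤ := by
    refine Scheme.IdealSheafData.ext_of_isAffine ?_
    rw [BlowUpLib.specIdeal_top, Ideal.map_top]
    rfl
  rw [h2, Scheme.IdealSheafData.support_top] at h1
  exact h1

end FrobHLib
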