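import Mathlib

/-!
# Morphisms from a quotient of a ring come from a quotient by a finitely generated ideal
-/

set_option autoImplicit false
set_option linter.style.haveILetI false
set_option backward.isDefEq.respectTransparency false

universe u

open CategoryTheory CategoryTheory.Limits AlgebraicGeometry Opposite

noncomputable section

namespace FrobHLib

variable {R : Type u} [CommRing R] (T : Ideal R)

/-- Finitely generated ideals inside a given one. -/
abbrev FGIdx : Type u := {U : Ideal R // U.FG ∧ U ≤ T}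

instance : Nonempty (FGIdx T) := ⟨⟨⊥, Submodule.fg_bot, bot_le⟩⟩

instance : IsDirected (FGIdx T) (· ≤ ·) :=
  ⟨fun U V => ⟨⟨U.1 ⊔ V.1, Submodule.FG.sup U.2.1 V.2.1, sup_le U.2.2 V.2.2⟩, le_sup_left (a := U.1), le_sup_right (a := U.1)⟩⟩

/-- The quotients. -/
def quotDiag : FGIdx T ⥤ CommRingCat.{u} where
  obj U := CommRingCat.of (R ⧸ U.1)
  map {U V} h := CommRingCat.ofHom (Ideal.Quotient.factor (leOfHom h))
  map_id U := by ext : 1; exact Ideal.Quotient.ringHom_ext rfl
  map_comp f g := by ext : 1; exact Ideal.Quotient.ringHom_ext rfl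

/-- The cocone with vertex the quotient. -/
def quotCocone : Cocone (quotDiag T) where
  pt := CommRingCat.of (R ⧸ T)
  ι :=
    { app := fun U => CommRingCat.ofHom (Ideal.Quotient.factor U.2.2)
      naturality := fun U V h => by ext : 1; exact Ideal.Quotient.ringHom_ext rfl }

theorem quotCocone_isColimit : Nonempty (IsColimit (quotCocone T)) := by
  haveI : ReflectsColimit (quotDiag T) (forget CommRingCat.{u}) := reflectsColimit_of_reflectsIsomorphisms _ _
  refine ⟨isColimitOfReflects (forget CommRingCat) (Types.FilteredColimit.isColimitOf _ _ (fun (x : R ⧸ T) => ?_) ?_)⟩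
  · obtain ⟨r, rfl⟩ := Ideal.Quotient.mk_surjective x
    exact ⟨⟨⊥, Submodule.fg_bot, bot_le⟩, Ideal.Quotient.mk _ r, rfl⟩
  · intro U V (a : R ⧸ U.1) (b : R ⧸ V.1) h
    obtain ⟨a, rfl⟩ := Ideal.Quotient.mk_surjective a
    obtain ⟨b, rfl⟩ := Ideal.Quotient.mk_surjective b
    have h' : a - b ∈ T := Ideal.Quotient.eq.1 h
    let E : FGIdx T := ⟨U.1 ⊔ V.1 ⊔ Ideal.span {a - b}, Submodule.FG.sup (Submodule.FG.sup U.2.1 V.2.1) (Submodule.fg_span_singleton _),
      sup_le (sup_le U.2.2 V.2.2) ((Ideal.span_singleton_le_iff_mem _).2 h')⟩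
    exact ⟨E, homOfLE (show U.1 ≤ E.1 from le_sup_left.trans le_sup_left),
      homOfLE (show V.1 ≤ E.1 from le_sup_right.trans le_sup_left),
      Ideal.Quotient.eq.2 (show a - b ∈ E.1 from Ideal.mem_sup_right (Ideal.subset_span rfl))⟩

/-- The spectra of the quotients. -/
abbrev quotSys : (FGIdx T)ᵒᵖ ⥤ Scheme.{u} := (quotDiag T).op ⋙ Scheme.Spec

/-- The limit cone. -/
def quotCone : Cone (quotSys T) := Scheme.Spec.mapCone (quotCocone T).op

theorem quotCone_isLimit : Nonempty (IsLimit (quotCone T)) :=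
  ⟨isLimitOfPreserves Scheme.Spec (quotCocone_isColimit T).some.op⟩

/-- The closed subscheme cut out by an ideal. -/
abbrev cl (U : Ideal R) : Spec (CommRingCat.of (R ⧸ U)) ⟶ Spec (CommRingCat.of R) :=
  Spec.map (CommRingCat.ofHom (Ideal.Quotient.mk U))

/-- The inclusion of one closed subscheme into another. -/
abbrev clMap {U V : Ideal R} (h : U ≤ V) : Spec (CommRingCat.of (R ⧸ V)) ⟶ Spec (CommRingCat.of (R ⧸ U)) :=
  Spec.map (CommRingCat.ofHom (Ideal.Quotient.factor h))

theorem clMap_cl {U V : Ideal R} (h : U ≤ V) : clMap h ≫ cl U = cl V := by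
  rw [clMap, cl, cl, ← Spec.map_comp, ← CommRingCat.ofHom_comp, Ideal.Quotient.factor_comp_mk]

theorem clMap_clMap {U V W : Ideal R} (h : U ≤ V) (h' : V ≤ W) : clMap h' ≫ clMap h = clMap (h.trans h') := by
  rw [clMap, clMap, clMap, ← Spec.map_comp, ← CommRingCat.ofHom_comp, Ideal.Quotient.factor_comp]

instance (i : (FGIdx T)ᵒᵖ) : IsAffine ((quotSys T).obj i) :=
  inferInstanceAs (IsAffine (Spec (CommRingCat.of (R ⧸ i.unop.1))))

variable {X' X : Scheme.{u}} (b : X' ⟶ X) (a : Spec (CommRingCat.of R) ⟶ X)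

/-- The structure morphisms. -/
def quotT : quotSys T ⟶ (Functor.const (FGIdx T)ᵒᵖ).obj X where
  app i := cl i.unop.1 ≫ a
  naturality i j h := by
    show clMap (leOfHom h.unop) ≫ cl j.unop.1 ≫ a = (cl i.unop.1 ≫ a) ≫ 𝟙 _
    rw [Category.comp_id, ← Category.assoc, clMap_cl]

variable {T}

/-- A morphism from a closed subscheme extends to one cut out by a finitely generated ideal. -/
theorem exists_stage_hom [LocallyOfFinitePresentation b] (l : Spec (CommRingCat.of (R ⧸ T)) ⟶ X')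
    (hl : l ≫ b = cl T ≫ a) :
    ∃ (U : Ideal R) (hU : U ≤ T) (l₀ : Spec (CommRingCat.of (R ⧸ U)) ⟶ X'),
      U.FG ∧ clMap hU ≫ l₀ = l ∧ l₀ ≫ b = cl U ≫ a := by
  obtain ⟨i, g, hg, hgb⟩ := Scheme.exists_π_app_comp_eq_of_locallyOfFinitePresentation (quotSys T) (quotT T a) b
    (quotCone T) (quotCone_isLimit T).some l (by
      ext i
      show clMap i.unop.2.2 ≫ cl i.unop.1 ≫ a = l ≫ b
      rw [← Category.assoc, clMap_cl, hl])
  exact ⟨i.unop.1, i.unop.2.2, g, i.unop.2.1, hg, hgb⟩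

/-- Two morphisms agreeing on a closed subscheme agree on one cut out by a finitely generated ideal. -/
theorem exists_stage_eq [LocallyOfFiniteType b] {U : Ideal R} (hU : U ≤ T) (hfg : U.FG)
    (l l' : Spec (CommRingCat.of (R ⧸ U)) ⟶ X') (hl : l ≫ b = cl U ≫ a) (hl' : l' ≫ b = cl U ≫ a)
    (h : clMap hU ≫ l = clMap hU ≫ l') :
    ∃ (V : Ideal R) (hUV : U ≤ V), V.FG ∧ V ≤ T ∧ clMap hUV ≫ l = clMap hUV ≫ l' := by
  obtain ⟨k, hk, hkk⟩ := Scheme.exists_hom_comp_eq_comp_of_locallyOfFiniteType (quotSys T) (quotT T a) b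
    (quotCone T) (quotCone_isLimit T).some (i := op ⟨U, hfg, hU⟩) l l' hl.symm hl'.symm h
  exact ⟨k.unop.1, leOfHom hk.unop, k.unop.2.1, k.unop.2.2, hkk⟩

end FrobHLib
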