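import Groth.Agent.FrobHLib.Alg
import Groth.Agent.FrobHLib.Limit
import Groth.Agent.FrobHLib.Ev
import Groth.Prelude.Def_HTop3

/-!
# The two charts at a finite stage, mapped to an almost blowing up
-/

set_option autoImplicit false
set_option linter.style.haveILetI false
set_option backward.isDefEq.respectTransparency false
set_option backward.isDefEq.respectTransparency.types false
set_option maxHeartbeats 1000000

universe u

open CategoryTheory CategoryTheory.Limits AlgebraicGeometry Opposite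
open LaurentPolynomial (T)
open Polynomial (toLaurent)

noncomputable section

namespace FrobHLib

section Ring

variable {A : Type u} [CommRing A] {f₁ f₂ : A}

theorem reflect_reflect (D : ℕ) (p : Polynomial A) : Polynomial.reflect D (Polynomial.reflect D p) = p :=
  Polynomial.ext fun i => by rw [Polynomial.coeff_reflect, Polynomial.coeff_reflect, Polynomial.revAt_invol]

theorem exists_bound (s : Finset (Polynomial A)) (hs : ∀ p ∈ s, ∃ D, IsForm f₁ f₂ D p) :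
    ∃ D, ∀ p ∈ s, IsForm f₁ f₂ D p := by
  classical
  choose! d hd using hs
  exact ⟨s.sup d, fun p hp => (hd p hp).mono (Finset.le_sup hp)⟩

theorem C_notMem_zeroDivisor : Ideal.Quotient.mk (RingHom.ker (ev f₁ f₂)) (Polynomial.C f₁) ∈
    nonZeroDivisors (Polynomial A ⧸ RingHom.ker (ev f₁ f₂)) := by
  refine mem_nonZeroDivisors_iff_right.2 fun z hz => ?_
  obtain ⟨p, rfl⟩ := Ideal.Quotient.mk_surjective z
  rw [← map_mul, Ideal.Quotient.eq_zero_iff_mem, RingHom.mem_ker, map_mul, ev_C] at hz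
  rw [Ideal.Quotient.eq_zero_iff_mem, RingHom.mem_ker]
  exact (IsLocalization.Away.algebraMap_isUnit f₁).mul_left_eq_zero.1 hz

theorem eqn_mem_ker : eqn f₁ f₂ ∈ RingHom.ker (ev f₁ f₂) := (mem_ker_ev _).2 ⟨1, isForm_eqn⟩

theorem span_map_eq {R : Type u} [CommRing R] (φ : A →+* R) (v : R) (h : φ f₁ * v = φ f₂) :
    (Ideal.span {f₁, f₂}).map φ = Ideal.span {φ f₁} := by
  rw [Ideal.map_span, Set.image_pair]
  refine le_antisymm (Ideal.span_le.2 ?_) (Ideal.span_mono (by simp))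
  rintro _ (rfl | rfl)
  · exact Ideal.subset_span rfl
  · rw [← h]; exact Ideal.mul_mem_right _ _ (Ideal.subset_span rfl)

/-- The overlap of the two charts at the limit. -/
abbrev T₀ (f₁ f₂ : A) : Ideal (LaurentPolynomial A) := (RingHom.ker (ev f₁ f₂)).map toLaurent

theorem exists_poly_of_mem_T₀ {x : LaurentPolynomial A} (hx : x ∈ T₀ f₁ f₂) :
    ∃ p ∈ RingHom.ker (ev f₁ f₂), x ∈ Ideal.span {toLaurent p} := by
  obtain ⟨n, x', hx'⟩ := x.exists_T_pow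
  have h1 : algebraMap (Polynomial A) (LaurentPolynomial A) x' ∈
      (RingHom.ker (ev f₁ f₂)).map (algebraMap (Polynomial A) (LaurentPolynomial A)) := by
    show toLaurent x' ∈ T₀ f₁ f₂
    rw [hx']; exact Ideal.mul_mem_right _ _ hx
  obtain ⟨⟨t, ⟨_, k, rfl⟩⟩, hk⟩ := (IsLocalization.mem_map_algebraMap_iff (Submonoid.powers (Polynomial.X : Polynomial A)) _).1 h1
  refine ⟨t, t.2, Ideal.mem_span_singleton'.2 ⟨T (-(n : ℤ)) * T (-(k : ℤ)), ?_⟩⟩
  change toLaurent x' * toLaurent (Polynomial.X ^ k) = toLaurent t.1 at hk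
  rw [hx', Polynomial.toLaurent_X_pow] at hk
  rw [← hk, show x * T (n : ℤ) * T (k : ℤ) = x * (T (n : ℤ) * T (k : ℤ)) from mul_assoc _ _ _]
  rw [← LaurentPolynomial.T_add, ← LaurentPolynomial.T_add, mul_left_comm, ← LaurentPolynomial.T_add]
  simp [show -(n : ℤ) + -(k : ℤ) + ((n : ℤ) + (k : ℤ)) = 0 by ring]

theorem C_mul_mem_T₀ {x : LaurentPolynomial A} (hx : LaurentPolynomial.C f₁ * x ∈ T₀ f₁ f₂) : x ∈ T₀ f₁ f₂ := by
  obtain ⟨n, x', hx'⟩ := x.exists_T_pow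
  have h1 : algebraMap (Polynomial A) (LaurentPolynomial A) (Polynomial.C f₁ * x') ∈
      (RingHom.ker (ev f₁ f₂)).map (algebraMap (Polynomial A) (LaurentPolynomial A)) := by
    show toLaurent (Polynomial.C f₁ * x') ∈ T₀ f₁ f₂
    rw [map_mul, Polynomial.toLaurent_C, hx', ← mul_assoc]; exact Ideal.mul_mem_right _ _ hx
  rw [IsLocalization.algebraMap_mem_map_algebraMap_iff (Submonoid.powers (Polynomial.X : Polynomial A))] at h1
  obtain ⟨_, ⟨k, rfl⟩, hk⟩ := h1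
  rw [RingHom.mem_ker, mul_left_comm, map_mul, ev_C] at hk
  have h2 : Polynomial.X ^ k * x' ∈ RingHom.ker (ev f₁ f₂) :=
    (IsLocalization.Away.algebraMap_isUnit f₁).mul_right_eq_zero.1 hk
  have h3 : toLaurent (Polynomial.X ^ k * x') ∈ T₀ f₁ f₂ := Ideal.mem_map_of_mem _ h2
  rw [map_mul, Polynomial.toLaurent_X_pow, hx'] at h3
  have h4 := Ideal.mul_mem_left _ (T (-(n : ℤ)) * T (-(k : ℤ))) h3
  convert h4 using 1
  rw [show T (-(n : ℤ)) * T (-(k : ℤ)) * (T (k : ℤ) * (x * T (n : ℤ))) =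
    x * ((T (-(n : ℤ)) * T (n : ℤ)) * (T (-(k : ℤ)) * T (k : ℤ))) by ring, ← LaurentPolynomial.T_add,
    ← LaurentPolynomial.T_add]
  simp

theorem ker_le_comap_ι₂ : RingHom.ker (ev f₂ f₁) ≤ (T₀ f₁ f₂).comap ι₂ := by
  intro q hq
  obtain ⟨D, hD⟩ := (mem_ker_ev _).1 hq
  rw [Ideal.mem_comap, ← reflect_reflect D q, ι₂_reflect hD.reflect.1]
  exact Ideal.mul_mem_left _ _ (Ideal.mem_map_of_mem _ ((mem_ker_ev _).2 ⟨D, hD.reflect⟩))

theorem Stage.map₁ (G : Stage f₁ f₂) : G.J₁ ≤ G.J₀.comap toLaurent :=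
  Ideal.span_le.2 fun p hp => Ideal.subset_span ⟨p, hp, rfl⟩

theorem Stage.map₂ (G : Stage f₁ f₂) : G.J₂ ≤ G.J₀.comap ι₂ := by
  refine Ideal.span_le.2 ?_
  rintro _ ⟨p, hp, rfl⟩
  rw [SetLike.mem_coe, Ideal.mem_comap, ι₂_reflect (G.form p hp).1]
  exact Ideal.mul_mem_left _ _ (Ideal.subset_span ⟨p, hp, rfl⟩)

/-- Finitely generated ideals of equations are contained in those of a stage. -/
theorem exists_stage {U₁ U₂ : Ideal (Polynomial A)} (hU₁ : U₁.FG) (hU₁' : U₁ ≤ RingHom.ker (ev f₁ f₂))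
    (hU₂ : U₂.FG) (hU₂' : U₂ ≤ RingHom.ker (ev f₂ f₁)) {V : Ideal (LaurentPolynomial A)} (hV : V.FG)
    (hV' : V ≤ T₀ f₁ f₂) : ∃ G : Stage f₁ f₂, U₁ ≤ G.J₁ ∧ U₂ ≤ G.J₂ ∧ V ≤ G.J₀ := by
  classical
  obtain ⟨s₁, hs₁⟩ := hU₁
  obtain ⟨s₂, hs₂⟩ := hU₂
  obtain ⟨sV, hsV⟩ := hV
  have hv : ∀ x ∈ sV, ∃ p ∈ RingHom.ker (ev f₁ f₂), x ∈ Ideal.span {toLaurent p} := fun x hx =>
    exists_poly_of_mem_T₀ (hV' (hsV ▸ Ideal.subset_span hx))
  choose! q hq hq' using hv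
  obtain ⟨D₁, hD₁⟩ := exists_bound (f₁ := f₁) (f₂ := f₂) (insert (eqn f₁ f₂) (s₁ ∪ sV.image q)) (fun p hp => by
    rw [Finset.mem_insert, Finset.mem_union, Finset.mem_image] at hp
    rcases hp with rfl | hp | ⟨x, hx, rfl⟩
    · exact ⟨1, isForm_eqn⟩
    · exact (mem_ker_ev _).1 (hU₁' (hs₁ ▸ Ideal.subset_span hp))
    · exact (mem_ker_ev _).1 (hq x hx))
  obtain ⟨D₂, hD₂⟩ := exists_bound (f₁ := f₂) (f₂ := f₁) (insert (eqn f₂ f₁) s₂) (fun p hp => by
    rw [Finset.mem_insert] at hp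
    rcases hp with rfl | hp
    · exact ⟨1, isForm_eqn⟩
    · exact (mem_ker_ev _).1 (hU₂' (hs₂ ▸ Ideal.subset_span hp)))
  let D := max D₁ D₂
  let a : Finset (Polynomial A) := insert (eqn f₁ f₂) (s₁ ∪ sV.image q)
  let b : Finset (Polynomial A) := (insert (eqn f₂ f₁) s₂).image (Polynomial.reflect D)
  let G : Stage f₁ f₂ :=
    { D := D
      S := (a : Set (Polynomial A)) ∪ (b : Set (Polynomial A))
      form := fun p hp => by
        rcases hp with hp | hp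
        · exact (hD₁ p hp).mono (le_max_left _ _)
        · obtain ⟨p', hp', rfl⟩ := Finset.mem_image.1 hp
          exact ((hD₂ p' hp').mono (le_max_right _ _)).reflect
      eqn₁ := Ideal.subset_span (Or.inl (Finset.mem_insert_self _ _))
      eqn₂ := Ideal.subset_span ⟨Polynomial.reflect D (eqn f₂ f₁),
        Or.inr (Finset.mem_image_of_mem _ (Finset.mem_insert_self _ _)), reflect_reflect _ _⟩ }
  refine ⟨G, ?_, ?_, ?_⟩
  · rw [← hs₁]
    exact Ideal.span_le.2 fun p hp => Ideal.subset_span (Or.inl (Finset.mem_insert_of_mem (Finset.mem_union_left _ hp)))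
  · rw [← hs₂]
    exact Ideal.span_le.2 fun p hp => Ideal.subset_span ⟨Polynomial.reflect D p,
      Or.inr (Finset.mem_image_of_mem _ (Finset.mem_insert_of_mem hp)), reflect_reflect _ _⟩
  · rw [← hsV]
    refine Ideal.span_le.2 fun x hx => ?_
    obtain ⟨c, hc⟩ := Ideal.mem_span_singleton'.1 (hq' x hx)
    rw [← hc]
    exact Ideal.mul_mem_left _ _ (Ideal.subset_span ⟨q x,
      Or.inl (Finset.mem_insert_of_mem (Finset.mem_union_right _ (Finset.mem_image_of_mem _ hx))), rfl⟩)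

end Ring

section Geometry

variable {Z X' X : Scheme.{u}} [IsAffine X] {i : Z ⟶ X} {b : X' ⟶ X}

/-- The part of the almost blowing up without sections supported on the exceptional locus. -/
abbrev sub (i : Z ⟶ X) (b : X' ⟶ X) := (HTop.supportedOn (i.ker.comap b)).subschemeι

/-- The ring map defining a chart. -/
abbrev chartMap {J : Ideal (Polynomial Γ(X, ⊤))} : Γ(X, ⊤) →+* Polynomial Γ(X, ⊤) ⧸ J :=
  (Ideal.Quotient.mk J).comp Polynomial.C

variable (hblow : BlowUp.IsBlowUp (sub i b ≫ b) i.ker) {f₁ f₂ : Γ(X, ⊤)}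
  (hI : i.ker.ideal ⟨⊤, isAffineOpen_top X⟩ = Ideal.span {f₁, f₂})

include hblow hI

omit hI in
theorem lifts_unique {C : Type u} [CommRing C] {φ : Γ(X, ⊤) →+* C} (he : BlowUp.IsEffCartierIdeal (i.ker.comap (toX φ)))
    (l l' : Spec (CommRingCat.of C) ⟶ (HTop.supportedOn (i.ker.comap b)).subscheme)
    (h : l ≫ sub i b ≫ b = toX φ) (h' : l' ≫ sub i b ≫ b = toX φ) : l = l' :=
  (hblow.2 _ _ he).unique h h'

theorem exists_lift : ∃ l : Spec (CommRingCat.of (Polynomial Γ(X, ⊤) ⧸ RingHom.ker (ev f₁ f₂))) ⟶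
    (HTop.supportedOn (i.ker.comap b)).subscheme,
    l ≫ sub i b ≫ b = toX (chartMap (J := RingHom.ker (ev f₁ f₂))) := by
  refine (hblow.2 _ _ (isEffCartier_toX i.ker _ (C_notMem_zeroDivisor (f₁ := f₁) (f₂ := f₂)) ?_)).exists
  rw [hI, span_map_eq (chartMap (J := RingHom.ker (ev f₁ f₂))) (Ideal.Quotient.mk _ Polynomial.X) ?_]
  · rfl
  · show Ideal.Quotient.mk _ (Polynomial.C f₁) * Ideal.Quotient.mk _ Polynomial.X = Ideal.Quotient.mk _ (Polynomial.C f₂)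
    rw [← map_mul, Ideal.Quotient.eq]
    exact eqn_mem_ker

/-- The two charts at a finite stage. -/
theorem exists_charts [LocallyOfFinitePresentation b] : ∃ (G : Stage f₁ f₂)
    (l₁ : Spec (CommRingCat.of (Polynomial Γ(X, ⊤) ⧸ G.J₁)) ⟶ X')
    (l₂ : Spec (CommRingCat.of (Polynomial Γ(X, ⊤) ⧸ G.J₂)) ⟶ X'),
    l₁ ≫ b = toX chartMap ∧ l₂ ≫ b = toX chartMap ∧
      Spec.map (CommRingCat.ofHom (Ideal.quotientMap G.J₀ toLaurent G.map₁)) ≫ l₁ =
        Spec.map (CommRingCat.ofHom (Ideal.quotientMap G.J₀ ι₂ G.map₂)) ≫ l₂ := by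
  have hI' : i.ker.ideal ⟨⊤, isAffineOpen_top X⟩ = Ideal.span {f₂, f₁} := by rw [hI, Set.pair_comm]
  obtain ⟨m₁, hm₁⟩ := exists_lift hblow hI
  obtain ⟨m₂, hm₂⟩ := exists_lift hblow hI'
  let a : Spec (CommRingCat.of (Polynomial Γ(X, ⊤))) ⟶ X := toX Polynomial.C
  have hcl : ∀ J : Ideal (Polynomial Γ(X, ⊤)), cl J ≫ a = toX (chartMap (J := J)) := fun J => map_toX _ _
  obtain ⟨U₁, hU₁, l₁, hfg₁, hl₁, hl₁b⟩ := exists_stage_hom b a (m₁ ≫ sub i b) (by rw [Category.assoc, hm₁, hcl])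
  obtain ⟨U₂, hU₂, l₂, hfg₂, hl₂, hl₂b⟩ := exists_stage_hom b a (m₂ ≫ sub i b) (by rw [Category.assoc, hm₂, hcl])
  let U : Ideal (LaurentPolynomial Γ(X, ⊤)) := U₁.map toLaurent ⊔ U₂.map ι₂
  have hU : U ≤ T₀ f₁ f₂ := sup_le (Ideal.map_mono hU₁) (Ideal.map_le_iff_le_comap.2 (hU₂.trans ker_le_comap_ι₂))
  let q₁ : Spec (CommRingCat.of (LaurentPolynomial Γ(X, ⊤) ⧸ U)) ⟶ Spec (CommRingCat.of (Polynomial Γ(X, ⊤) ⧸ U₁)) :=
    Spec.map (CommRingCat.ofHom (Ideal.quotientMap U toLaurent (Ideal.map_le_iff_le_comap.1 le_sup_left)))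
  let q₂ : Spec (CommRingCat.of (LaurentPolynomial Γ(X, ⊤) ⧸ U)) ⟶ Spec (CommRingCat.of (Polynomial Γ(X, ⊤) ⧸ U₂)) :=
    Spec.map (CommRingCat.ofHom (Ideal.quotientMap U ι₂ (Ideal.map_le_iff_le_comap.1 le_sup_right)))
  let a₀ : Spec (CommRingCat.of (LaurentPolynomial Γ(X, ⊤))) ⟶ X := toX LaurentPolynomial.C
  have hq₁ : (q₁ ≫ l₁) ≫ b = cl U ≫ a₀ := by
    rw [Category.assoc, hl₁b, hcl, map_toX, map_toX]
    congr 1
    ext x
    simp
  have hq₂ : (q₂ ≫ l₂) ≫ b = cl U ≫ a₀ := by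
    rw [Category.assoc, hl₂b, hcl, map_toX, map_toX]
    congr 1
    ext x
    simp [ι₂_C]
  have heff : BlowUp.IsEffCartierIdeal (i.ker.comap (toX ((Ideal.Quotient.mk (T₀ f₁ f₂)).comp LaurentPolynomial.C))) := by
    refine isEffCartier_toX i.ker _ (f := Ideal.Quotient.mk _ (LaurentPolynomial.C f₁))
      (mem_nonZeroDivisors_iff_right.2 fun z hz => ?_) ?_
    · obtain ⟨x, rfl⟩ := Ideal.Quotient.mk_surjective z
      rw [← map_mul, Ideal.Quotient.eq_zero_iff_mem, mul_comm] at hz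
      exact Ideal.Quotient.eq_zero_iff_mem.2 (C_mul_mem_T₀ hz)
    · rw [hI, span_map_eq _ (Ideal.Quotient.mk _ (T 1)) ?_]
      · rfl
      · have h := Ideal.mem_map_of_mem toLaurent (eqn_mem_ker (f₁ := f₁) (f₂ := f₂))
        rw [eqn, map_sub, map_mul, Polynomial.toLaurent_C, Polynomial.toLaurent_X, Polynomial.toLaurent_C] at h
        show Ideal.Quotient.mk _ (LaurentPolynomial.C f₁) * Ideal.Quotient.mk _ (T 1) = Ideal.Quotient.mk _ (LaurentPolynomial.C f₂)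
        rw [← map_mul, Ideal.Quotient.eq]
        exact h
  have hm : clMap hU ≫ q₁ ≫ l₁ = clMap hU ≫ q₂ ≫ l₂ := by
    let r₁ := Ideal.quotientMap (T₀ f₁ f₂) toLaurent (Ideal.map_le_iff_le_comap.1 le_rfl)
    let r₂ := Ideal.quotientMap (T₀ f₁ f₂) ι₂ ker_le_comap_ι₂
    have e₁ : clMap hU ≫ q₁ = Spec.map (CommRingCat.ofHom r₁) ≫ clMap hU₁ := by
      rw [clMap, clMap, ← Spec.map_comp, ← Spec.map_comp, ← CommRingCat.ofHom_comp, ← CommRingCat.ofHom_comp]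
      congr 2
      exact Ideal.Quotient.ringHom_ext rfl
    have e₂ : clMap hU ≫ q₂ = Spec.map (CommRingCat.ofHom r₂) ≫ clMap hU₂ := by
      rw [clMap, clMap, ← Spec.map_comp, ← Spec.map_comp, ← CommRingCat.ofHom_comp, ← CommRingCat.ofHom_comp]
      congr 2
      exact Ideal.Quotient.ringHom_ext rfl
    rw [reassoc_of% e₁, reassoc_of% e₂, hl₁, hl₂, ← Category.assoc, ← Category.assoc]
    refine congrArg (· ≫ sub i b) (lifts_unique hblow heff _ _ ?_ ?_)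
    · rw [Category.assoc, hm₁, map_toX]
      congr 1
      ext x
      simp [r₁]
    · rw [Category.assoc, hm₂, map_toX]
      congr 1
      ext x
      simp [r₂, ι₂_C]
  obtain ⟨V, hUV, hVfg, hVT, hV⟩ := exists_stage_eq b a₀ hU (Submodule.FG.sup (hfg₁.map _) (hfg₂.map _)) _ _ hq₁ hq₂ hm
  obtain ⟨G, hG₁, hG₂, hG₀⟩ := exists_stage hfg₁ hU₁ hfg₂ hU₂ hVfg hVT
  refine ⟨G, clMap hG₁ ≫ l₁, clMap hG₂ ≫ l₂, ?_, ?_, ?_⟩
  · rw [Category.assoc, hl₁b, ← Category.assoc, clMap_cl, hcl]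
  · rw [Category.assoc, hl₂b, ← Category.assoc, clMap_cl, hcl]
  · have h := congrArg (clMap hG₀ ≫ ·) hV
    simp only [q₁, q₂, ← Category.assoc, ← Spec.map_comp, clMap, ← CommRingCat.ofHom_comp] at h ⊢
    convert h using 4 <;> exact Ideal.Quotient.ringHom_ext rfl

end Geometry

end FrobHLib
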