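import Groth.Agent.FrobHLib.Square
import Groth.Agent.AlmostBlowLib.Criterion
import Mathlib

/-!
# Compatible sequences form an h sheaf
-/

set_option autoImplicit false
set_option linter.style.haveILetI false
set_option backward.isDefEq.respectTransparency false
set_option backward.isDefEq.respectTransparency.types false
set_option maxHeartbeats 1000000

universe u

open CategoryTheory CategoryTheory.Limits AlgebraicGeometry Opposite

noncomputable section

namespace FrobHLib

/-- The affine line. -/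
def A1 : CommRingCat.{u} := CommRingCat.of (Polynomial (ULift.{u} ℤ))

/-- A function as a morphism to the affine line. -/
def toA1 {X : Scheme.{u}} (a : Γ(X, ⊤)) : X ⟶ Spec A1 :=
  X.toSpecΓ ≫ Spec.map (CommRingCat.ofHom (Polynomial.eval₂RingHom ((Int.castRingHom Γ(X, ⊤)).comp ULift.ringEquiv.toRingHom) a) :
    A1 ⟶ Γ(X, ⊤))

/-- The function of a morphism to the affine line. -/
def ofA1 {X : Scheme.{u}} (g : X ⟶ Spec A1) : Γ(X, ⊤) :=
  ((Scheme.ΓSpecIso A1).inv ≫ g.appTop).hom (Polynomial.X : Polynomial (ULift.{u} ℤ))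

theorem toA1_appTop {X : Scheme.{u}} (a : Γ(X, ⊤)) : (Scheme.ΓSpecIso A1).inv ≫ (toA1 a).appTop =
    CommRingCat.ofHom (Polynomial.eval₂RingHom ((Int.castRingHom Γ(X, ⊤)).comp ULift.ringEquiv.toRingHom) a) := by
  simp [toA1]

theorem ofA1_toA1 {X : Scheme.{u}} (a : Γ(X, ⊤)) : ofA1 (toA1 a) = a := by
  rw [ofA1, toA1_appTop]
  exact Polynomial.eval₂_X _ _

theorem ringHom_ext {R : Type u} [CommRing R] {φ ψ : Polynomial (ULift.{u} ℤ) →+* R} (h : φ Polynomial.X = ψ Polynomial.X) : φ = ψ := by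
  refine Polynomial.ringHom_ext' ?_ h
  have h2 : (φ.comp Polynomial.C).comp ULift.ringEquiv.symm.toRingHom = (ψ.comp Polynomial.C).comp ULift.ringEquiv.symm.toRingHom :=
    Subsingleton.elim _ _
  refine RingHom.ext fun z => ?_
  have h3 := RingHom.congr_fun h2 (ULift.ringEquiv z)
  rw [RingHom.comp_apply, RingHom.comp_apply, RingHom.comp_apply, RingHom.comp_apply] at h3
  rwa [show ULift.ringEquiv.symm.toRingHom (ULift.ringEquiv z) = z from RingEquiv.symm_apply_apply _ _] at h3

theorem ofA1_injective {X : Scheme.{u}} {g g' : X ⟶ Spec A1} (h : ofA1 g = ofA1 g') : g = g' := by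
  apply ext_of_isAffine
  rw [← cancel_epi (Scheme.ΓSpecIso A1).inv]
  exact CommRingCat.hom_ext (ringHom_ext h)

theorem comp_ofA1 {X Y : Scheme.{u}} (f : Y ⟶ X) (g : X ⟶ Spec A1) : ofA1 (f ≫ g) = f.appTop.hom (ofA1 g) := by
  simp [ofA1]

variable (p : ℕ) {S : Scheme.{u}} {ι : Type*} {X : Over S} (Y : ι → Over S) (f : ∀ i, Y i ⟶ X)

/-- Compatible sequences descend along families along which morphisms to schemes descend. -/
theorem isSheafFor_of_desc
    (hd : ∀ g : ∀ i, (Y i).left ⟶ Spec A1, (∀ i j, pullback.fst (f i).left (f j).left ≫ g i = pullback.snd (f i).left (f j).left ≫ g j) →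
      ∃! G : X.left ⟶ Spec A1, ∀ i, (f i).left ≫ G = g i) :
    (Presieve.ofArrows Y f).IsSheafFor (HTop.frobLimPresheaf p S) := by
  rw [Presieve.isSheafFor_arrows_iff]
  intro s hs
  have hcomp : ∀ (n : ℕ) (i j : ι), pullback.fst (f i).left (f j).left ≫ toA1 ((s i).1 n) =
      pullback.snd (f i).left (f j).left ≫ toA1 ((s j).1 n) := fun n i j => by
    refine ofA1_injective ?_
    rw [comp_ofA1, comp_ofA1, ofA1_toA1, ofA1_toA1]
    let W : Over S := Over.mk (pullback.fst (f i).left (f j).left ≫ (Y i).hom)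
    let a : W ⟶ Y i := Over.homMk (pullback.fst (f i).left (f j).left) rfl
    let b : W ⟶ Y j := Over.homMk (pullback.snd (f i).left (f j).left) (by
      show _ ≫ (Y j).hom = pullback.fst _ _ ≫ (Y i).hom
      rw [← Over.w (f i), ← Over.w (f j), pullback.condition_assoc])
    exact congrArg (fun z => z.1 n) (hs i j W a b (Over.OverMorphism.ext pullback.condition))
  choose G hG hGu using fun n => hd _ (hcomp n)
  have hGv : ∀ n i, (f i).left.appTop.hom (ofA1 (G n)) = (s i).1 n := fun n i => by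
    rw [← comp_ofA1, hG, ofA1_toA1]
  have huniq : ∀ (n : ℕ) (z : Γ(X.left, ⊤)), (∀ i, (f i).left.appTop.hom z = (s i).1 n) → z = ofA1 (G n) := fun n z hz => by
    rw [← ofA1_toA1 z]
    refine congrArg ofA1 (hGu n _ fun i => ofA1_injective ?_)
    rw [comp_ofA1, ofA1_toA1, ofA1_toA1, hz]
  refine ⟨⟨fun n => ofA1 (G n), fun n => huniq n _ fun i => by rw [map_pow, hGv, (s i).2]⟩, fun i => ?_, fun z hz => ?_⟩
  · exact HTop.FrobLimSections.ext fun n => hGv n i
  · exact HTop.FrobLimSections.ext fun n => huniq n _ fun i => congrArg (fun w => w.1 n) (hz i)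

theorem isSheaf_zariski (S : Scheme.{u}) : Presieve.IsSheaf (Scheme.zariskiTopology.over S) (HTop.frobLimPresheaf p S) := by
  refine RzLib.OSh.isSheaf_over_of_forall (K := Scheme.zariskiPrecoverage) fun {ι T} Z φ h X g => ?_
  obtain ⟨hcov, hopen⟩ := (Scheme.ofArrows_mem_precoverage_iff _).1 h
  refine isSheafFor_of_desc p _ _ fun gs hgs => ?_
  haveI := hopen
  let 𝒰 : X.left.OpenCover :=
    { I₀ := ι
      X := fun i => pullback g (φ i)
      f := fun i => pullback.fst g (φ i)
      mem₀ := by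
        rw [Scheme.ofArrows_mem_precoverage_iff]
        refine ⟨fun x => ?_, fun i => inferInstance⟩
        obtain ⟨i, y, hy⟩ := hcov (g x)
        obtain ⟨z, hz, -⟩ := Scheme.Pullback.exists_preimage_pullback (f := g) (g := φ i) x y hy.symm
        exact ⟨i, z, hz⟩ }
  refine ⟨𝒰.glueMorphisms gs hgs, fun i => 𝒰.ι_glueMorphisms gs hgs i, fun G hG => 𝒰.hom_ext _ _ fun i => ?_⟩
  exact (hG i).trans (𝒰.ι_glueMorphisms gs hgs i).symm

theorem isSheafFor_flat {X Y : Over S} (f : X ⟶ Y) [Surjective f.left] [Flat f.left] [QuasiCompact f.left] :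
    Presieve.IsSheafFor (HTop.frobLimPresheaf p S) (Presieve.singleton f) := by
  have he : (Presieve.ofArrows _ fun _ : PUnit.{1} => f) = Presieve.singleton f := Presieve.ofArrows_pUnit f
  rw [← he]
  refine isSheafFor_of_desc p _ _ fun gs hgs => ?_
  have hcond : ∀ {Z : Scheme.{u}} (g₁ g₂ : Z ⟶ X.left), g₁ ≫ f.left = g₂ ≫ f.left → g₁ ≫ gs PUnit.unit = g₂ ≫ gs PUnit.unit :=
    fun g₁ g₂ h => by
      rw [← pullback.lift_fst g₁ g₂ h, Category.assoc, hgs PUnit.unit PUnit.unit, pullback.lift_snd_assoc]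
  exact ⟨EffectiveEpi.desc f.left _ hcond, fun _ => EffectiveEpi.fac f.left _ hcond,
    fun G hG => EffectiveEpi.uniq f.left _ hcond G (hG _)⟩

theorem isSheaf_Jh [Fact p.Prime] (S : Scheme.{u}) (hS : (p : Γ(S, ⊤)) = 0) :
    Presieve.IsSheaf (HTop.Jh S) (HTop.frobLimPresheaf p S) := by
  refine AlmostBlowLib.isSheaf_Jh_of_squares (isSheaf_zariski p S)
    (fun X Y f _ _ _ _ _ => isSheafFor_flat p f) ?_
  intro E Z X' X e π b i hX h hi t s' hts
  obtain ⟨f₁, f₂, hf⟩ := hi
  haveI := hX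
  have hI : i.left.ker.ideal ⟨⊤, isAffineOpen_top X.left⟩ = Ideal.span {f₁, f₂} := by
    rw [hf]
    exact Scheme.IdealSheafData.equivOfIsAffine.right_inv _
  have hp : (p : Γ(X.left, ⊤)) = 0 := by rw [← map_natCast X.hom.appTop.hom, hS, map_zero]
  exact existsUnique_square h hI hp t s' hts

end FrobHLib
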