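import Groth.Agent.FrobHLib.Colim
import Groth.Agent.FrobHLib.Main
import Groth.Agent.BigSiteLib.Sheaf
import Groth.Prelude.Def_QuotSh

/-!
# Frobenius colimits of functions, sheafified, form an h sheaf
-/

set_option autoImplicit false
set_option linter.style.haveILetI false
set_option backward.isDefEq.respectTransparency false
set_option backward.isDefEq.respectTransparency.types false
set_option maxHeartbeats 1000000

universe u

open CategoryTheory CategoryTheory.Limits AlgebraicGeometry Opposite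

noncomputable section

namespace FrobHLib

open HTop (FrobColimSections)

variable {p : ℕ} {X : Scheme.{u}}

theorem mk_eq_mk_pow (n k : ℕ) (a : Γ(X, ⊤)) :
    FrobColimSections.mk p n a = FrobColimSections.mk p (n + k) (a ^ p ^ k) := by
  induction k with
  | zero => simp
  | succ k ih => rw [ih, FrobColimSections.sound, ← add_assoc, ← pow_mul, ← pow_succ]

theorem mk_eq_mk_iff (n : ℕ) (a b : Γ(X, ⊤)) :
    FrobColimSections.mk p n a = FrobColimSections.mk p n b ↔ ∃ k, a ^ p ^ k = b ^ p ^ k := by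
  refine ⟨fun h => ?_, fun ⟨k, hk⟩ => by rw [mk_eq_mk_pow n k a, mk_eq_mk_pow n k b, hk]⟩
  let Rel : ℕ × Γ(X, ⊤) → ℕ × Γ(X, ⊤) → Prop := fun x y =>
    ∃ i j, x.1 + i = y.1 + j ∧ x.2 ^ p ^ i = y.2 ^ p ^ j
  have hR : ∀ x y, Relation.EqvGen (HTop.FrobColimRel p X) x y → Rel x y := by
    intro x y hxy
    induction hxy with
    | rel x y h =>
      obtain rfl := h
      exact ⟨1, 0, rfl, by simp⟩
    | refl x => exact ⟨0, 0, rfl, rfl⟩
    | symm x y _ ih =>
      obtain ⟨i, j, h, h'⟩ := ih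
      exact ⟨j, i, h.symm, h'.symm⟩
    | trans x y z _ _ ih ih' =>
      obtain ⟨i, j, h, h'⟩ := ih
      obtain ⟨i', j', h₂, h₂'⟩ := ih'
      refine ⟨i + i', j' + j, by omega, ?_⟩
      rw [pow_add, pow_mul, h', ← pow_mul, ← pow_add, add_comm, pow_add, pow_mul, h₂', ← pow_mul, ← pow_add]
  obtain ⟨i, j, hij, h'⟩ := hR (n, a) (n, b) (Quot.eqvGen_exact h)
  obtain rfl : i = j := by simpa using hij
  exact ⟨i, h'⟩

theorem exists_mk (s : FrobColimSections p X) : ∃ n a, s = FrobColimSections.mk p n a := by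
  induction s using Quot.ind with
  | mk x => exact ⟨x.1, x.2, rfl⟩

theorem exists_mk_le {n : ℕ} (a : Γ(X, ⊤)) {N : ℕ} (h : n ≤ N) :
    ∃ a', FrobColimSections.mk p n a = FrobColimSections.mk p N a' :=
  ⟨a ^ p ^ (N - n), by rw [mk_eq_mk_pow n (N - n), Nat.add_sub_cancel' h]⟩

theorem eq_pow_of_le {k K : ℕ} (hle : k ≤ K) {a b : Γ(X, ⊤)} (h : a ^ p ^ k = b ^ p ^ k) : a ^ p ^ K = b ^ p ^ K := by
  rw [← Nat.add_sub_cancel' hle, pow_add, pow_mul, pow_mul, h]

theorem ext_cover (𝒰 : X.OpenCover) {a b : Γ(X, ⊤)} (h : ∀ i, (𝒰.f i).appTop.hom a = (𝒰.f i).appTop.hom b) : a = b := by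
  rw [← ofA1_toA1 a, ← ofA1_toA1 b]
  refine congrArg ofA1 (𝒰.hom_ext _ _ fun i => ofA1_injective ?_)
  rw [comp_ofA1, comp_ofA1, ofA1_toA1, ofA1_toA1, h]

theorem glue_cover (𝒰 : X.OpenCover) (a : ∀ i, Γ(𝒰.X i, ⊤))
    (h : ∀ i j, (pullback.fst (𝒰.f i) (𝒰.f j)).appTop.hom (a i) = (pullback.snd (𝒰.f i) (𝒰.f j)).appTop.hom (a j)) :
    ∃ z : Γ(X, ⊤), ∀ i, (𝒰.f i).appTop.hom z = a i := by
  refine ⟨ofA1 (𝒰.glueMorphisms (fun i => toA1 (a i)) fun i j => ofA1_injective ?_), fun i => ?_⟩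
  · rw [comp_ofA1, comp_ofA1, ofA1_toA1, ofA1_toA1, h]
  · rw [← comp_ofA1, 𝒰.ι_glueMorphisms, ofA1_toA1]

section Sheafify

variable (p) {S : Scheme.{u}}

/-- The lifted presheaf. -/
abbrev P₀ (S : Scheme.{u}) : (Over S)ᵒᵖ ⥤ Type (u + 1) := HTop.frobColimPresheaf p S ⋙ uliftFunctor.{u + 1, u}

/-- Its sheafification. -/
abbrev Q (S : Scheme.{u}) : (Over S)ᵒᵖ ⥤ Type (u + 1) := (QuotSh.J Scheme.zariskiPrecoverage S).sheafify (P₀ p S)

/-- Sections of the lifted presheaf. -/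
def up {X : Over S} (s : FrobColimSections p X.left) : (P₀ p S).obj (op X) :=
  (ULift.up s : ULift.{u + 1} (FrobColimSections p X.left))

/-- The canonical map. -/
def η {X : Over S} (s : FrobColimSections p X.left) : (Q p S).obj (op X) :=
  ((QuotSh.J Scheme.zariskiPrecoverage S).toSheafify (P₀ p S)).app (op X) (up p s)

variable {p}

theorem η_map {X Y : Over S} (f : Y ⟶ X) (s : FrobColimSections p X.left) :
    (Q p S).map f.op (η p s) = η p (FrobColimSections.map p f.left s) :=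
  (NatTrans.naturality_apply ((QuotSh.J Scheme.zariskiPrecoverage S).toSheafify (P₀ p S)) f.op (up p s)).symm

theorem isSheaf_Q : Presieve.IsSheaf (Scheme.zariskiTopology.over S) (Q p S) :=
  (isSheaf_iff_isSheaf_of_type _ _).1 ((QuotSh.J Scheme.zariskiPrecoverage S).sheafify_isSheaf (P₀ p S))

theorem η_injective {X : Over S} [CompactSpace X.left] : Function.Injective (η p (X := X)) := by
  intro s s' hs
  obtain ⟨n, a, rfl⟩ := exists_mk s
  obtain ⟨m, b, rfl⟩ := exists_mk s'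
  obtain ⟨a', ha'⟩ := exists_mk_le (p := p) a (le_max_left n m)
  obtain ⟨b', hb'⟩ := exists_mk_le (p := p) b (le_max_right n m)
  rw [ha', hb'] at hs ⊢
  obtain ⟨𝒰, h𝒰⟩ := BigSiteLib.exists_cover (Presheaf.equalizerSieve_mem (QuotSh.J Scheme.zariskiPrecoverage S)
    ((QuotSh.J Scheme.zariskiPrecoverage S).toSheafify (P₀ p S)) (up p (X := X) (FrobColimSections.mk p (max n m) a'))
      (up p (X := X) (FrobColimSections.mk p (max n m) b')) hs)
  have hk : ∀ i, ∃ k, ((𝒰.f i).appTop.hom a') ^ p ^ k = ((𝒰.f i).appTop.hom b') ^ p ^ k := fun i =>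
    (mk_eq_mk_iff (max n m) _ _).1 (congrArg ULift.down (h𝒰 i))
  choose k hk using hk
  let 𝒱 := 𝒰.finiteSubcover
  obtain ⟨K, hK⟩ := Finite.exists_le fun j : 𝒱.I₀ => k (𝒰.idx j.1)
  refine (mk_eq_mk_iff _ _ _).2 ⟨K, ext_cover 𝒱 fun j => ?_⟩
  rw [map_pow, map_pow]
  exact eq_pow_of_le (hK j) (hk _)

theorem η_bijective {X : Over S} [CompactSpace X.left] [QuasiSeparatedSpace X.left] :
    Function.Bijective (η p (X := X)) := by
  refine ⟨η_injective, fun s => ?_⟩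
  obtain ⟨𝒰, h𝒰⟩ := BigSiteLib.exists_cover (Presheaf.imageSieve_mem (QuotSh.J Scheme.zariskiPrecoverage S)
    ((QuotSh.J Scheme.zariskiPrecoverage S).toSheafify (P₀ p S)) (U := op X) s)
  choose W hWx hWle using fun x : X.left => BlowUpLib.exists_affine x (W := (𝒰.f (𝒰.idx x)).opensRange) (𝒰.covers x)
  obtain ⟨fs, hfs⟩ := isCompact_univ.elim_finite_subcover (fun x => ((W x).1 : Set X.left))
    (fun x => (W x).1.2) (fun x _ => Set.mem_iUnion.2 ⟨x, hWx x⟩)
  let 𝒱 : X.left.OpenCover :=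
    { I₀ := fs
      X := fun x => (W x.1).1
      f := fun x => (W x.1).1.ι
      mem₀ := by
        rw [Scheme.ofArrows_mem_precoverage_iff]
        refine ⟨fun y => ?_, fun x => inferInstance⟩
        obtain ⟨x, hx, hy⟩ := Set.mem_iUnion₂.1 (hfs (Set.mem_univ y))
        exact ⟨⟨x, hx⟩, ⟨y, hy⟩, rfl⟩ }
  let Y : fs → Over S := fun x => Over.mk (𝒱.f x ≫ X.hom)
  let g : ∀ x, Y x ⟶ X := fun x => Over.homMk (𝒱.f x) rfl
  have hsec : ∀ x : fs, ∃ c : FrobColimSections p (Y x).left, η p (X := Y x) c = (Q p S).map (g x).op s := fun x => by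
    obtain ⟨c, hc⟩ := h𝒰 (𝒰.idx x.1)
    let l := IsOpenImmersion.lift (𝒰.f (𝒰.idx x.1)) (W x.1).1.ι (by rw [Scheme.Opens.range_ι]; exact hWle x.1)
    have hl : l ≫ 𝒰.f (𝒰.idx x.1) = (W x.1).1.ι := IsOpenImmersion.lift_fac _ _ _
    let l' : Y x ⟶ Over.mk (𝒰.f (𝒰.idx x.1) ≫ X.hom) := Over.homMk l (by
      show l ≫ 𝒰.f _ ≫ X.hom = (W x.1).1.ι ≫ X.hom
      rw [← Category.assoc, hl])
    have hg : g x = l' ≫ Over.homMk (𝒰.f (𝒰.idx x.1)) := Over.OverMorphism.ext hl.symm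
    refine ⟨FrobColimSections.map p l c.down, ?_⟩
    rw [show FrobColimSections.map p l c.down = FrobColimSections.map p l'.left c.down from rfl, ← η_map, hg,
      op_comp, Functor.map_comp, ConcreteCategory.comp_apply]
    exact congrArg _ hc
  choose c hc using hsec
  choose n a ha using fun x => exists_mk (c x)
  obtain ⟨N, hN⟩ := Finite.exists_le n
  choose a' ha' using fun x => exists_mk_le (p := p) (a x) (hN x)
  have hov : ∀ i j : fs, ∃ k, ((pullback.fst (𝒱.f i) (𝒱.f j)).appTop.hom (a' i)) ^ p ^ k =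
      ((pullback.snd (𝒱.f i) (𝒱.f j)).appTop.hom (a' j)) ^ p ^ k := by
    intro i j
    haveI : IsAffine (𝒱.X i) := (W i.1).2
    haveI : IsAffine (𝒱.X j) := (W j.1).2
    haveI : CompactSpace ↥(pullback (𝒱.f i) (𝒱.f j)) := QuasiCompact.compactSpace_of_compactSpace (pullback.fst (𝒱.f i) (𝒱.f j))
    let V : Over S := Over.mk (pullback.fst (𝒱.f i) (𝒱.f j) ≫ (Y i).hom)
    haveI : CompactSpace V.left := ‹_›
    let q₁ : V ⟶ Y i := Over.homMk (pullback.fst (𝒱.f i) (𝒱.f j)) rfl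
    let q₂ : V ⟶ Y j := Over.homMk (pullback.snd (𝒱.f i) (𝒱.f j)) (by
      show pullback.snd _ _ ≫ 𝒱.f j ≫ X.hom = pullback.fst _ _ ≫ 𝒱.f i ≫ X.hom
      rw [pullback.condition_assoc])
    have hq : q₁ ≫ g i = q₂ ≫ g j := Over.OverMorphism.ext pullback.condition
    refine (mk_eq_mk_iff N _ _).1 (η_injective (X := V) ?_)
    show η p (FrobColimSections.map p q₁.left (FrobColimSections.mk p N (a' i))) =
      η p (FrobColimSections.map p q₂.left (FrobColimSections.mk p N (a' j)))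
    rw [← η_map, ← η_map, ← ha', ← ha', ← ha, ← ha, hc, hc, ← ConcreteCategory.comp_apply,
      ← ConcreteCategory.comp_apply, ← Functor.map_comp, ← Functor.map_comp, ← op_comp, ← op_comp, hq]
  choose k hk using hov
  obtain ⟨K, hK⟩ := Finite.exists_le fun q : fs × fs => k q.1 q.2
  obtain ⟨z, hz⟩ := glue_cover 𝒱 (fun i => a' i ^ p ^ K) fun i j => by
    rw [map_pow, map_pow]
    exact eq_pow_of_le (hK (i, j)) (hk i j)
  refine ⟨FrobColimSections.mk p (N + K) z, RzLib.OSh.ext_open (isSheaf_Q (p := p)) Y g (fun x => ?_) (fun y => ?_) _ _ fun x => ?_⟩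
  · exact inferInstanceAs (IsOpenImmersion (W x.1).1.ι)
  · obtain ⟨x, hx, hy⟩ := Set.mem_iUnion₂.1 (hfs (Set.mem_univ y))
    exact ⟨⟨x, hx⟩, ⟨y, hy⟩, rfl⟩
  · rw [η_map, FrobColimSections.map_mk, ← hc, ha x, ha' x, mk_eq_mk_pow N K (a' x)]
    exact congrArg _ (congrArg _ (hz x))

variable [Fact p.Prime]

theorem flatHyp_Q : AlmostBlowLib.FlatHyp (Q p S) := by
  intro X Y f hY hs hfl hpr hlfp
  haveI : CompactSpace X.left := QuasiCompact.compactSpace_of_compactSpace f.left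
  haveI : QuasiSeparatedSpace X.left := quasiSeparatedSpace_of_quasiSeparated f.left
  rw [Presieve.isSheafFor_singleton]
  intro s hs'
  obtain ⟨c, rfl⟩ := (η_bijective (X := X)).2 s
  obtain ⟨n, a, rfl⟩ := exists_mk c
  let W : Over S := Over.mk (pullback.fst f.left f.left ≫ X.hom)
  haveI : CompactSpace W.left := QuasiCompact.compactSpace_of_compactSpace (pullback.fst f.left f.left)
  let q₁ : W ⟶ X := Over.homMk (pullback.fst f.left f.left) rfl
  let q₂ : W ⟶ X := Over.homMk (pullback.snd f.left f.left) (by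
    show pullback.snd _ _ ≫ X.hom = pullback.fst _ _ ≫ X.hom
    rw [← Over.w f, pullback.condition_assoc])
  have h12 := hs' q₁ q₂ (Over.OverMorphism.ext pullback.condition)
  rw [η_map, η_map] at h12
  obtain ⟨k, hk⟩ := (mk_eq_mk_iff n _ _).1 (η_injective (X := W) h12)
  have hcond : ∀ {T : Scheme.{u}} (g₁ g₂ : T ⟶ X.left), g₁ ≫ f.left = g₂ ≫ f.left →
      g₁ ≫ toA1 (a ^ p ^ k) = g₂ ≫ toA1 (a ^ p ^ k) := fun g₁ g₂ h => by
    refine (pullback.lift_fst_assoc g₁ g₂ h _).symm.trans ((congrArg (pullback.lift g₁ g₂ h ≫ ·) (ofA1_injective ?_)).trans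
      (pullback.lift_snd_assoc g₁ g₂ h _))
    rw [comp_ofA1, comp_ofA1, ofA1_toA1, map_pow, map_pow]
    exact hk
  let z : Γ(Y.left, ⊤) := ofA1 (EffectiveEpi.desc f.left _ hcond)
  refine ⟨η p (FrobColimSections.mk p (n + k) z), ?_, fun t ht => ?_⟩
  · show (Q p S).map f.op _ = _
    rw [η_map, FrobColimSections.map_mk, mk_eq_mk_pow n k a, ← comp_ofA1, EffectiveEpi.fac, ofA1_toA1]
  · haveI := hY
    obtain ⟨c', rfl⟩ := (η_bijective (X := Y)).2 t
    obtain ⟨m, b, rfl⟩ := exists_mk c'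
    change (Q p S).map f.op _ = _ at ht
    rw [η_map, FrobColimSections.map_mk] at ht
    have h2 := η_injective (X := X) ht
    obtain ⟨b', hb'⟩ := exists_mk_le (p := p) b (le_max_left m (n + k))
    obtain ⟨z', hz'⟩ := exists_mk_le (p := p) z (le_max_right m (n + k))
    rw [hb', hz']
    have h3 : FrobColimSections.map p f.left (FrobColimSections.mk p (max m (n + k)) b') =
        FrobColimSections.map p f.left (FrobColimSections.mk p (max m (n + k)) z') := by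
      rw [← hb', ← hz', FrobColimSections.map_mk, FrobColimSections.map_mk, h2, mk_eq_mk_pow n k a, ← comp_ofA1,
        EffectiveEpi.fac, ofA1_toA1]
    obtain ⟨k', hk'⟩ := (mk_eq_mk_iff _ _ _).1 h3
    refine congrArg _ ((mk_eq_mk_iff _ _ _).2 ⟨k', ?_⟩)
    rw [← ofA1_toA1 (b' ^ p ^ k'), ← ofA1_toA1 (z' ^ p ^ k')]
    refine congrArg ofA1 ((cancel_epi f.left).1 (ofA1_injective ?_))
    rw [comp_ofA1, comp_ofA1, ofA1_toA1, ofA1_toA1, map_pow, map_pow, hk']

theorem isNilpotent_iff_pow {R : Type u} [CommRing R] {x : R} (h : IsNilpotent x) : ∃ k, x ^ p ^ k = 0 := by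
  obtain ⟨N, hN⟩ := h
  exact ⟨N, pow_eq_zero_of_le (Nat.lt_pow_self (Fact.out : p.Prime).one_lt).le hN⟩

theorem squareCond_Q (hS : (p : Γ(S, ⊤)) = 0) :
    AlmostBlowLib.SquareCond (Q p S) (fun {_ X} i => ∃ f₁ f₂ : Γ(X.left, ⊤),
      i.left.ker = Scheme.IdealSheafData.ofIdealTop (Ideal.span {f₁, f₂})) := by
  intro E Z X' X e π b i hX h hi t s' hts
  obtain ⟨f₁, f₂, hf⟩ := hi
  haveI := hX
  haveI := h.isClosedImmersion
  haveI := h.isProper
  haveI := h.finitePresentation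
  haveI : IsAffine Z.left := isAffine_of_isAffineHom i.left
  haveI : CompactSpace X'.left := QuasiCompact.compactSpace_of_compactSpace b.left
  haveI : QuasiSeparatedSpace X'.left := quasiSeparatedSpace_of_quasiSeparated b.left
  haveI : IsClosedImmersion e.left := MorphismProperty.of_isPullback h.isPullback.flip h.isClosedImmersion
  haveI : CompactSpace E.left := QuasiCompact.compactSpace_of_compactSpace e.left
  have hI : i.left.ker.ideal ⟨⊤, isAffineOpen_top X.left⟩ = Ideal.span {f₁, f₂} := by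
    rw [hf]
    exact Scheme.IdealSheafData.equivOfIsAffine.right_inv _
  have hp : (p : Γ(X.left, ⊤)) = 0 := by rw [← map_natCast X.hom.appTop.hom, hS, map_zero]
  have hpX' : (p : Γ(X'.left, ⊤)) = 0 := p_eq_zero h hp
  have hpZ : (p : Γ(Z.left, ⊤)) = 0 := by rw [← map_natCast i.left.appTop.hom, hp, map_zero]
  obtain ⟨ct, rfl⟩ := (η_bijective (X := Z)).2 t
  obtain ⟨cs, rfl⟩ := (η_bijective (X := X')).2 s'
  obtain ⟨n₁, t₁, rfl⟩ := exists_mk ct
  obtain ⟨n₂, s₁, rfl⟩ := exists_mk cs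
  obtain ⟨t₂, ht₂⟩ := exists_mk_le (p := p) t₁ (le_max_left n₁ n₂)
  obtain ⟨s₂, hs₂⟩ := exists_mk_le (p := p) s₁ (le_max_right n₁ n₂)
  rw [ht₂, hs₂] at hts ⊢
  rw [η_map, η_map] at hts
  obtain ⟨k, hk⟩ := (mk_eq_mk_iff _ _ _).1 (η_injective (X := E) hts)
  let t₀ := t₂ ^ p ^ k
  let s₀ := s₂ ^ p ^ k
  let n := max n₁ n₂ + k
  rw [mk_eq_mk_pow (max n₁ n₂) k t₂, mk_eq_mk_pow (max n₁ n₂) k s₂]
  have hts₀ : π.left.appTop.hom t₀ = e.left.appTop.hom s₀ := by
    simp only [t₀, s₀, map_pow]; exact hk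
  obtain ⟨G, l₁, l₂, hl₁, hl₂, hov⟩ := exists_charts h.isBlowUp hI
  obtain ⟨M, a, ha, ha₁, ha₂⟩ := exists_approx h hI hp hl₁ hl₂ hov t₀ s₀ hts₀
  have hEw : ∀ z, e.left.appTop.hom (b.left.appTop.hom z) = π.left.appTop.hom (i.left.appTop.hom z) := fun z => by
    rw [← CommRingCat.comp_apply, ← CommRingCat.comp_apply, ← Scheme.Hom.comp_appTop, ← Scheme.Hom.comp_appTop,
      h.isPullback.w]
  obtain ⟨N, hN⟩ := isNilpotent_iff_pow (p := p) (isNilpotent_of_charts h hI hl₁ hl₂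
    (z := b.left.appTop.hom a - s₀ ^ p ^ M)
    (by rw [map_sub, map_pow, hEw, ha, map_pow, hts₀, sub_self])
    (by rw [map_sub, map_pow, ← ha₁]; exact sub_self _)
    (by rw [map_sub, map_pow, ← ha₂]; exact sub_self _))
  rw [sub_pow_p hpX', sub_eq_zero] at hN
  refine ⟨η p (FrobColimSections.mk p (n + M) a), ⟨?_, ?_⟩, ?_⟩
  · rw [η_map, FrobColimSections.map_mk, mk_eq_mk_pow n M t₀]
    exact congrArg _ (congrArg _ ha)
  · rw [η_map, FrobColimSections.map_mk, mk_eq_mk_pow n M s₀]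
    exact congrArg _ ((mk_eq_mk_iff _ _ _).2 ⟨N, hN⟩)
  · rintro t' ⟨h₁, h₂⟩
    obtain ⟨c', rfl⟩ := (η_bijective (X := X)).2 t'
    obtain ⟨m, a₁, rfl⟩ := exists_mk c'
    obtain ⟨A₁, hA₁⟩ := exists_mk_le (p := p) a₁ (le_max_left m (n + M))
    obtain ⟨A₂, hA₂⟩ := exists_mk_le (p := p) a (le_max_right m (n + M))
    rw [hA₁] at h₁ h₂ ⊢
    rw [hA₂]
    rw [η_map, FrobColimSections.map_mk] at h₁ h₂
    have eZ : FrobColimSections.mk p (max m (n + M)) (i.left.appTop.hom A₁) = FrobColimSections.mk p (max m (n + M)) (i.left.appTop.hom A₂) := by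
      rw [η_injective (X := Z) h₁, ← FrobColimSections.map_mk, ← hA₂, FrobColimSections.map_mk, mk_eq_mk_pow n M t₀, ha]
    have eX' : FrobColimSections.mk p (max m (n + M)) (b.left.appTop.hom A₁) = FrobColimSections.mk p (max m (n + M)) (b.left.appTop.hom A₂) := by
      rw [η_injective (X := X') h₂, ← FrobColimSections.map_mk p b.left _ A₂, ← hA₂, FrobColimSections.map_mk, mk_eq_mk_pow n M s₀]
      exact ((mk_eq_mk_iff _ _ _).2 ⟨N, hN⟩).symm
    obtain ⟨k₁, hk₁⟩ := (mk_eq_mk_iff _ _ _).1 eZ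
    obtain ⟨k₂, hk₂⟩ := (mk_eq_mk_iff _ _ _).1 eX'
    let d := A₁ ^ p ^ (max k₁ k₂) - A₂ ^ p ^ (max k₁ k₂)
    have hdZ : i.left.appTop.hom d = 0 := by
      rw [map_sub, map_pow, map_pow, eq_pow_of_le (le_max_left k₁ k₂) hk₁, sub_self]
    have hdX : b.left.appTop.hom d = 0 := by
      rw [map_sub, map_pow, map_pow, eq_pow_of_le (le_max_right k₁ k₂) hk₂, sub_self]
    have hd1 : evAt l₁ (b.left.appTop.hom d) = 0 := by rw [hdX, map_zero]
    have hd2 : evAt l₂ (b.left.appTop.hom d) = 0 := by rw [hdX, map_zero]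
    rw [← evAt_comp, hl₁, evAt_toX] at hd1
    rw [← evAt_comp, hl₂, evAt_toX] at hd2
    have hdI : d ∈ Ideal.span {f₁, f₂} := by
      rw [← hI, Scheme.Hom.ker_apply, RingHom.mem_ker]
      exact hdZ
    obtain ⟨L, hL⟩ := isNilpotent_iff_pow (p := p) ⟨_, G.pow_eq_zero hdI (Ideal.Quotient.eq_zero_iff_mem.1 hd1) (Ideal.Quotient.eq_zero_iff_mem.1 hd2)⟩
    rw [sub_pow_p hp, sub_eq_zero, ← pow_mul, ← pow_mul, ← pow_add] at hL
    exact congrArg _ ((mk_eq_mk_iff _ _ _).2 ⟨_, hL⟩)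

theorem main (hS : (p : Γ(S, ⊤)) = 0) :
    Presheaf.IsSheaf (HTop.Jh S) (Q p S) ∧ ∀ (X : Over S) [CompactSpace X.left] [QuasiSeparatedSpace X.left],
      Function.Bijective (((QuotSh.J Scheme.zariskiPrecoverage S).toSheafify (P₀ p S)).app (op X)) := by
  refine ⟨(isSheaf_iff_isSheaf_of_type _ _).2
    (AlmostBlowLib.isSheaf_Jh_of_squares isSheaf_Q flatHyp_Q (squareCond_Q hS)), fun X _ _ => ?_⟩
  exact ⟨fun x y hxy => congrArg ULift.up ((η_bijective (p := p) (X := X)).1 (show η p x.down = η p y.down from hxy)),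
    fun z => by
      obtain ⟨w, hw⟩ := (η_bijective (p := p) (X := X)).2 z
      exact ⟨ULift.up w, hw⟩⟩

end Sheafify

end FrobHLib
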