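import Mathlib.Algebra.Polynomial.Laurent
import Mathlib.Algebra.Polynomial.Reverse
import Mathlib.Algebra.CharP.Lemmas
import Mathlib.RingTheory.Localization.Away.Basic
import Mathlib.RingTheory.Ideal.Operations
import Mathlib.Tactic.Ring

/-!
# Forms on the two charts of the blowing up of two elements
-/

set_option autoImplicit false

universe u

namespace FrobHLib

open Polynomial Finset

variable {A : Type u} [CommRing A] (f₁ f₂ : A)

/-- The value at `(f₁, f₂)` of the form of degree `D` with dehomogenisation `p`. -/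
noncomputable def val (D : ℕ) (p : A[X]) : A :=
  ∑ i ∈ range (D + 1), p.coeff i * f₂ ^ i * f₁ ^ (D - i)

/-- `p` dehomogenises a form of degree `D` vanishing at `(f₁, f₂)`. -/
def IsForm (D : ℕ) (p : A[X]) : Prop := p.natDegree ≤ D ∧ val f₁ f₂ D p = 0

/-- The first chart equation. -/
noncomputable def eqn : A[X] := C f₁ * X - C f₂

variable {f₁ f₂}

theorem val_add_right {D : ℕ} {p : A[X]} (h : p.natDegree ≤ D) (k : ℕ) :
    val f₁ f₂ (D + k) p = f₁ ^ k * val f₁ f₂ D p := by
  induction k with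
  | zero => simp
  | succ k ih =>
    rw [← add_assoc, val, sum_range_succ, Polynomial.coeff_eq_zero_of_natDegree_lt (show p.natDegree < D + k + 1 by omega)]
    rw [zero_mul, zero_mul, add_zero, pow_succ', mul_assoc, ← ih, val, mul_sum]
    refine sum_congr rfl fun i hi => ?_
    rw [mem_range] at hi
    rw [show D + k + 1 - i = D + k - i + 1 by omega, pow_succ]
    ring

theorem IsForm.mono {D E : ℕ} {p : A[X]} (h : IsForm f₁ f₂ D p) (hle : D ≤ E) : IsForm f₁ f₂ E p := by
  refine ⟨h.1.trans hle, ?_⟩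
  rw [show E = D + (E - D) by omega, val_add_right h.1, h.2, mul_zero]

theorem val_reflect {D : ℕ} (p : A[X]) : val f₂ f₁ D (reflect D p) = val f₁ f₂ D p := by
  rw [val, val, ← sum_range_reflect]
  refine sum_congr rfl fun i hi => ?_
  rw [mem_range] at hi
  rw [show D + 1 - 1 - i = D - i by omega, coeff_reflect, revAt_le (by omega),
    show D - (D - i) = i by omega]
  ring

theorem IsForm.reflect {D : ℕ} {p : A[X]} (h : IsForm f₁ f₂ D p) : IsForm f₂ f₁ D (Polynomial.reflect D p) := by
  refine ⟨natDegree_le_iff_coeff_eq_zero.2 fun i hi => ?_, (val_reflect p).trans h.2⟩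
  rw [coeff_reflect, revAt, Function.Embedding.coeFn_mk, if_neg (by omega)]
  exact coeff_eq_zero_of_natDegree_lt (h.1.trans_lt hi)

theorem congr_val {D : ℕ} {p : A[X]} (h : p.natDegree ≤ D) :
    C f₁ ^ D * p - C (val f₁ f₂ D p) ∈ Ideal.span {eqn f₁ f₂} := by
  conv => enter [2, 1, 2]; rw [as_sum_range_C_mul_X_pow' p (show p.natDegree < D + 1 by omega)]
  rw [val, map_sum, mul_sum, ← sum_sub_distrib]
  refine Submodule.sum_mem _ fun i hi => ?_
  rw [mem_range] at hi
  rw [map_mul, map_mul, map_pow, map_pow]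
  rw [show C f₁ ^ D * (C (p.coeff i) * X ^ i) - C (p.coeff i) * C f₂ ^ i * C f₁ ^ (D - i) =
      C (p.coeff i) * C f₁ ^ (D - i) * ((C f₁ * X) ^ i - C f₂ ^ i) by
    rw [show C f₁ ^ D = C f₁ ^ (D - i) * C f₁ ^ i by rw [← pow_add, Nat.sub_add_cancel (by omega)]]
    ring]
  exact Ideal.mul_mem_left _ _ (Ideal.mem_span_singleton.2 (sub_dvd_pow_sub_pow _ _ _))

theorem IsForm.mul_mem {D : ℕ} {p : A[X]} (h : IsForm f₁ f₂ D p) : C f₁ ^ D * p ∈ Ideal.span {eqn f₁ f₂} := by
  simpa [h.2] using congr_val (f₁ := f₁) (f₂ := f₂) h.1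

section Hom

variable {B : Type u} [CommRing B] (ψ : A →+* B) (v : B) (hv : ψ f₁ * v = ψ f₂)

include hv

theorem eval_eqn : eval₂RingHom ψ v (eqn f₁ f₂) = 0 := by simp [eqn, hv]

theorem eval_form {D : ℕ} {p : A[X]} (hu : IsUnit (ψ f₁)) (h : IsForm f₁ f₂ D p) : eval₂RingHom ψ v p = 0 := by
  have h1 := h.mul_mem
  obtain ⟨r, hr⟩ := Ideal.mem_span_singleton.1 h1
  have h2 := congrArg (eval₂RingHom ψ v) hr
  rw [map_mul, map_mul, eval_eqn ψ v hv, zero_mul, map_pow] at h2
  simpa [hu.pow D |>.mul_right_eq_zero] using h2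

end Hom

variable (f₁ f₂) in
/-- The evaluation on the first chart. -/
noncomputable def ev : A[X] →+* Localization.Away f₁ :=
  eval₂RingHom (algebraMap A _) (algebraMap A _ f₂ * IsLocalization.Away.invSelf f₁)

theorem ev_spec : algebraMap A (Localization.Away f₁) f₁ *
    (algebraMap A _ f₂ * IsLocalization.Away.invSelf f₁) = algebraMap A _ f₂ := by
  rw [mul_left_comm, IsLocalization.Away.mul_invSelf, mul_one]

theorem ev_C (a : A) : ev f₁ f₂ (C a) = algebraMap A _ a := eval₂_C _ _

theorem mem_ker_ev (p : A[X]) : p ∈ RingHom.ker (ev f₁ f₂) ↔ ∃ D, IsForm f₁ f₂ D p := by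
  constructor
  · intro hp
    obtain ⟨r, hr⟩ := Ideal.mem_span_singleton.1 (congr_val (f₁ := f₁) (f₂ := f₂) (p := p) le_rfl)
    have h2 := congrArg (ev f₁ f₂) hr
    rw [map_sub, map_mul, map_mul, RingHom.mem_ker.1 hp, mul_zero, zero_sub, ev, eval_eqn _ _ ev_spec, zero_mul,
      neg_eq_zero, ← ev, ev_C] at h2
    obtain ⟨⟨_, k, rfl⟩, hk⟩ := (IsLocalization.map_eq_zero_iff (Submonoid.powers f₁) _ _).1 h2
    refine ⟨p.natDegree + k, by omega, ?_⟩
    rw [val_add_right le_rfl]
    exact hk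
  · rintro ⟨D, hD⟩
    exact eval_form _ _ ev_spec (IsLocalization.Away.algebraMap_isUnit _) hD

theorem isForm_eqn : IsForm f₁ f₂ 1 (eqn f₁ f₂) := by
  refine ⟨?_, ?_⟩
  · refine natDegree_le_iff_coeff_eq_zero.2 fun i hi => ?_
    simp [eqn, coeff_C, coeff_X, show ¬ 1 = i by omega, show i ≠ 0 by omega]
  · simp [val, eqn, sum_range_succ]
    ring

theorem isForm_X_mul {D : ℕ} {p : A[X]} (h : IsForm f₁ f₂ D p) : IsForm f₁ f₂ (D + 1) (X * p) := by
  refine ⟨(natDegree_mul_le).trans (by have := natDegree_X_le (R := A); have := h.1; omega), ?_⟩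
  rw [val, sum_range_succ' _ (D + 1)]
  simp only [coeff_X_mul, coeff_X_mul_zero, zero_mul, add_zero]
  have := h.2
  rw [val] at this
  rw [← mul_zero f₂, ← this, mul_sum]
  refine sum_congr rfl fun i hi => ?_
  rw [show D + 1 - (i + 1) = D - i by omega, pow_succ]
  ring

/-! Laurent polynomials -/

open LaurentPolynomial (T invert)

/-- The second chart inside the overlap. -/
noncomputable def ι₂ : A[X] →+* LaurentPolynomial A :=
  (invert (R := A)).toRingEquiv.toRingHom.comp toLaurent

theorem ι₂_apply (p : A[X]) : ι₂ p = invert (toLaurent p) := rfl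

theorem ι₂_C (a : A) : ι₂ (C a) = LaurentPolynomial.C a := by simp [ι₂_apply]

theorem ι₂_X : ι₂ (X : A[X]) = T (-1) := by simp [ι₂_apply]

theorem ι₂_reflect {D : ℕ} {p : A[X]} (h : p.natDegree ≤ D) : ι₂ (reflect D p) = T (-(D : ℤ)) * toLaurent p := by
  rw [as_sum_range_C_mul_X_pow' p (show p.natDegree < D + 1 by omega)]
  have hs : reflect D (∑ i ∈ range (D + 1), C (p.coeff i) * X ^ i) = ∑ i ∈ range (D + 1), C (p.coeff i) * X ^ (D - i) := by
    ext j
    rw [coeff_reflect, finsetSum_coeff, finsetSum_coeff]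
    refine sum_congr rfl fun i hi => ?_
    rw [mem_range] at hi
    simp only [coeff_C_mul_X_pow]
    by_cases hj : j ≤ D
    · rw [revAt_le hj]
      exact if_congr (by omega) rfl rfl
    · simp only [revAt, Function.Embedding.coeFn_mk, if_neg hj]
      rw [if_neg (show ¬ j = i by omega), if_neg (show ¬ j = D - i by omega)]
  rw [hs, map_sum, map_sum, mul_sum]
  refine sum_congr rfl fun i hi => ?_
  rw [mem_range] at hi
  rw [map_mul, map_pow, ι₂_C, ι₂_X, map_mul, map_pow, toLaurent_C, toLaurent_X, LaurentPolynomial.T_pow,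
    LaurentPolynomial.T_pow, mul_left_comm, ← LaurentPolynomial.T_add]
  congr 2
  push_cast [Nat.cast_sub (show i ≤ D by omega)]
  ring

theorem ι₂_injective : Function.Injective (ι₂ (A := A)) :=
  (invert (R := A)).injective.comp toLaurent_injective

/-- A polynomial which is also a polynomial in the inverse variable, shifted by `m`, has degree at most `m`. -/
theorem coeff_eq_zero_of_eq {a b : A[X]} {m : ℤ} (h : toLaurent a = T m * ι₂ b) (i : ℕ) (hi : m < i) :
    a.coeff i = 0 := by
  have h1 := congrArg (fun z : LaurentPolynomial A => z.coeff (i : ℤ)) h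
  rw [ι₂_apply, LaurentPolynomial.T_mul, LaurentPolynomial.T] at h1
  rw [AddMonoidAlgebra.coeff_mul_single_apply, mul_one, LaurentPolynomial.invert_apply,
    LaurentPolynomial.coeff_toLaurent, LaurentPolynomial.coeff_toLaurent,
    show ((i : ℤ)) = Nat.castEmbedding i from rfl, Finsupp.mapDomain_apply Nat.castEmbedding.injective,
    Finsupp.mapDomain_of_notMem_range _ _ (by rintro ⟨j, hj⟩; simp at hj; omega)] at h1
  exact h1

end FrobHLib
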