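import Groth.Agent.FrobHLib.Chart
import Groth.Agent.RzLib.Square
import Groth.Prelude.Def_W4stkflatFrob

/-!
# Compatible sequences of sections and almost blow up squares
-/

set_option autoImplicit false
set_option linter.style.haveILetI false
set_option backward.isDefEq.respectTransparency false
set_option backward.isDefEq.respectTransparency.types false
set_option maxHeartbeats 1000000

universe u

open CategoryTheory CategoryTheory.Limits AlgebraicGeometry Opposite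
open Polynomial (toLaurent)

noncomputable section

namespace FrobHLib

variable {p : ℕ} [Fact p.Prime]

theorem sub_pow_p {R : Type u} [CommRing R] (h : (p : R) = 0) (x y : R) (n : ℕ) :
    (x - y) ^ p ^ n = x ^ p ^ n - y ^ p ^ n := by
  obtain ⟨r, hr⟩ := exists_add_pow_prime_pow_eq (Fact.out : p.Prime) (x - y) y n
  rw [sub_add_cancel, h] at hr
  rw [hr]
  ring

theorem pow_shift {R : Type u} [CommRing R] {a : ℕ → R} (h : ∀ n, a (n + 1) ^ p = a n) (n m : ℕ) :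
    a (n + m) ^ p ^ m = a n := by
  induction m with
  | zero => simp
  | succ m ih => rw [← add_assoc, pow_succ', pow_mul, h, ih]

theorem diff_pow {R : Type u} [CommRing R] (h : (p : R) = 0) {a b : ℕ → R} (ha : ∀ n, a (n + 1) ^ p = a n)
    (hb : ∀ n, b (n + 1) ^ p = b n) (n : ℕ) : (a (n + 1) - b (n + 1)) ^ p = a n - b n := by
  have := sub_pow_p (p := p) h (a (n + 1)) (b (n + 1)) 1
  rwa [pow_one, ha, hb] at this

variable {E Z X' X : Scheme.{u}} {e : E ⟶ X'} {π : E ⟶ Z} {b : X' ⟶ X} {i : Z ⟶ X}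
  (h : HTop.IsAlmostBlowUpSquare e π b i) [IsAffine X]

include h

omit [IsAffine X] in
theorem ker_e : e.ker = i.ker.comap b := by
  haveI := h.isClosedImmersion
  rw [← Scheme.IdealSheafData.ker_fst_of_isClosedImmersion i b, ← h.isPullback.isoPullback_hom_fst,
    Scheme.Hom.ker_comp_of_isIso]

theorem p_eq_zero (hp : (p : Γ(X, ⊤)) = 0) : (p : Γ(X', ⊤)) = 0 := by
  rw [← map_natCast b.appTop.hom, hp, map_zero]

/-- Two sequences on the almost blowing up agreeing on the exceptional locus and on the charts are equal. -/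
theorem ext_of_charts {f₁ f₂ : Γ(X, ⊤)} (hI : i.ker.ideal ⟨⊤, isAffineOpen_top X⟩ = Ideal.span {f₁, f₂})
    {G : Stage f₁ f₂} {l₁ : Spec (CommRingCat.of (Polynomial Γ(X, ⊤) ⧸ G.J₁)) ⟶ X'}
    {l₂ : Spec (CommRingCat.of (Polynomial Γ(X, ⊤) ⧸ G.J₂)) ⟶ X'} (hl₁ : l₁ ≫ b = toX chartMap)
    (hl₂ : l₂ ≫ b = toX chartMap) (hp : (p : Γ(X, ⊤)) = 0) {u v : HTop.FrobLimSections p X'}
    (hE : ∀ n, e.appTop.hom (u.1 n) = e.appTop.hom (v.1 n)) (h₁ : ∀ n, evAt l₁ (u.1 n) = evAt l₁ (v.1 n))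
    (h₂ : ∀ n, evAt l₂ (u.1 n) = evAt l₂ (v.1 n)) : u = v := by
  haveI := h.isClosedImmersion
  refine HTop.FrobLimSections.ext fun n => ?_
  -- affine pieces
  choose U hxU t ht using h.locPrincipal
  refine TopCat.Sheaf.eq_of_locally_eq' X'.sheaf (fun x => (U x).1) ⊤ (fun x => homOfLE le_top)
    (fun x _ => TopologicalSpace.Opens.mem_iSup.2 ⟨x, hxU x⟩) _ _ fun x => ?_
  let j := (U x).2.fromSpec
  let ρ : Γ(X', ⊤) →+* Γ(X', (U x).1) := (X'.presheaf.map (homOfLE le_top).op).hom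
  show ρ (u.1 n) = ρ (v.1 n)
  have hj : evAt j = ρ := by
    have h1 : j.appTop ≫ (Scheme.ΓSpecIso _).hom = X'.presheaf.map (homOfLE (le_top : (U x).1 ≤ ⊤)).op := by
      rw [Scheme.Hom.appTop, (U x).2.fromSpec_app_of_le ⊤ le_top]
      erw [Category.assoc, Category.assoc]
      change X'.presheaf.map _ ≫ (Scheme.ΓSpecIso Γ(X', (U x).1)).inv ≫ (Spec Γ(X', (U x).1)).presheaf.map (𝟙 (op ⊤)) ≫ _ = _
      rw [CategoryTheory.Functor.map_id, Category.id_comp, Iso.inv_hom_id, Category.comp_id]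
    exact congrArg CommRingCat.Hom.hom h1
  let ψ : Γ(X, ⊤) →+* Γ(X', (U x).1) := ρ.comp b.appTop.hom
  have hIψ : (Ideal.span {f₁, f₂}).map ψ = Ideal.span {t x} := by
    rw [← hI, ← ht x, Groth.Agent.S4666.ideal_comap_eq i.ker b ⟨⊤, isAffineOpen_top X⟩ (U x) le_top]
    rfl
  let d : ℕ → Γ(X', (U x).1) := fun m => ρ (u.1 m) - ρ (v.1 m)
  have hpX' : (p : Γ(X', (U x).1)) = 0 := by rw [← map_natCast ρ, p_eq_zero h hp, map_zero]
  have hd : ∀ m, d (m + 1) ^ p = d m := diff_pow hpX' (a := fun m => ρ (u.1 m)) (b := fun m => ρ (v.1 m)) (fun m => by rw [← map_pow, u.2 m]) (fun m => by rw [← map_pow, v.2 m])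
  have hdt : ∀ m, d m ∈ Ideal.span {t x} := by
    intro m
    rw [← ht x, ← ker_e h]
    haveI : IsClosedImmersion e := MorphismProperty.of_isPullback h.isPullback.flip h.isClosedImmersion
    rw [Scheme.Hom.ker_apply, RingHom.mem_ker]
    show e.app (U x).1 (ρ (u.1 m) - ρ (v.1 m)) = 0
    rw [map_sub]
    have nat : ∀ w, e.app (U x).1 (ρ w) = E.presheaf.map (homOfLE (fun _ _ => trivial)).op (e.appTop w) := fun w =>
      congr($(e.naturality (homOfLE (le_top : (U x).1 ≤ ⊤)).op) w)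
    rw [nat, nat, hE m, sub_self]
  have key : ∀ (g₁ g₂ : Γ(X, ⊤)) (J : Ideal (Polynomial Γ(X, ⊤)))
      (l : Spec (CommRingCat.of (Polynomial Γ(X, ⊤) ⧸ J)) ⟶ X'), l ≫ b = toX chartMap →
      (∀ n, evAt l (u.1 n) = evAt l (v.1 n)) → g₁ ∈ i.ker.ideal ⟨⊤, isAffineOpen_top X⟩ →
      (∀ (B : Type u) [CommRing B] (φ : Γ(X, ⊤) →+* B) (w : B), φ g₁ * w = φ g₂ → IsUnit (φ g₁) →
        J ≤ RingHom.ker (Polynomial.eval₂RingHom φ w)) →
      ∀ m, ∃ N : ℕ, (t x * ψ g₁) ^ N * d m = 0 := by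
    intro g₁ g₂ J l hl hlu hg hJ m
    let M := Localization.Away (t x * ψ g₁)
    let q : Spec (CommRingCat.of M) ⟶ X' := Spec.map (CommRingCat.ofHom (algebraMap Γ(X', (U x).1) M)) ≫ j
    let φ : Γ(X, ⊤) →+* M := (algebraMap Γ(X', (U x).1) M).comp ψ
    have hu : IsUnit (φ g₁) :=
      isUnit_of_mul_isUnit_right (x := algebraMap _ M (t x)) (by
        show IsUnit (algebraMap _ M (t x) * algebraMap _ M (ψ g₁))
        rw [← map_mul]; exact IsLocalization.Away.algebraMap_isUnit _)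
    let w : M := φ g₂ * (hu.unit⁻¹ : Mˣ).1
    have hw : φ g₁ * w = φ g₂ := by rw [mul_left_comm, IsUnit.mul_val_inv, mul_one]
    let r : Polynomial Γ(X, ⊤) ⧸ J →+* M := Ideal.Quotient.lift J (Polynomial.eval₂RingHom φ w) fun a ha => hJ M φ w hw hu ha
    have hqb : q ≫ b = toX φ := eq_toX (by rw [evAt_comp_ringHom, evAt_map, hj]; rfl)
    have hrb : (Spec.map (CommRingCat.ofHom r) ≫ l) ≫ b = toX φ := by
      rw [Category.assoc, hl, map_toX]
      congr 1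
      ext y
      simp [r]
    have hav : ∀ z, b (q z) ∉ Set.range i := by
      rintro z ⟨z', hz'⟩
      refine notMem_support i.ker φ (Ideal.eq_top_of_isUnit_mem _ (Ideal.mem_map_of_mem φ hg) hu) z ?_
      rw [← hqb, Scheme.Hom.comp_apply, ← hz', Scheme.Hom.support_ker]
      exact subset_closure ⟨z', rfl⟩
    have hq := RzLib.OSh.mono_away_supportedOn i b h.isBlowUp q (Spec.map (CommRingCat.ofHom r) ≫ l) (hqb.trans hrb.symm) hav
    have h0 : algebraMap Γ(X', (U x).1) M (d m) = 0 := by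
      have e1 : ∀ y, algebraMap Γ(X', (U x).1) M (ρ y) = r (evAt l y) := fun y => by
        have := congrArg (fun g => evAt g y) hq
        simp only [q, evAt_map, hj, RingHom.comp_apply] at this
        exact this
      simp only [d, map_sub, e1, hlu, sub_self]
    obtain ⟨⟨_, N, rfl⟩, hN⟩ := (IsLocalization.map_eq_zero_iff (Submonoid.powers (t x * ψ g₁)) _ _).1 h0
    exact ⟨N, hN⟩
  have hJ₁ : ∀ (B : Type u) [CommRing B] (φ : Γ(X, ⊤) →+* B) (w : B), φ f₁ * w = φ f₂ → IsUnit (φ f₁) →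
      G.J₁ ≤ RingHom.ker (Polynomial.eval₂RingHom φ w) := fun B _ φ w hw hu =>
    Ideal.span_le.2 fun q hq => eval_form φ w hw hu (G.form q hq)
  have hJ₂ : ∀ (B : Type u) [CommRing B] (φ : Γ(X, ⊤) →+* B) (w : B), φ f₂ * w = φ f₁ → IsUnit (φ f₂) →
      G.J₂ ≤ RingHom.ker (Polynomial.eval₂RingHom φ w) := fun B _ φ w hw hu => Ideal.span_le.2 fun q hq => by
    obtain ⟨q', hq', rfl⟩ := hq
    exact eval_form φ w hw hu (G.form q' hq').reflect
  have htor : ∀ m, ∃ N : ℕ, t x ^ N * d m = 0 := by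
    intro m
    obtain ⟨N₁, hN₁⟩ := key f₁ f₂ G.J₁ l₁ hl₁ h₁ (hI ▸ Ideal.subset_span (by simp)) hJ₁ m
    obtain ⟨N₂, hN₂⟩ := key f₂ f₁ G.J₂ l₂ hl₂ h₂ (hI ▸ Ideal.subset_span (by simp)) hJ₂ m
    have htmem : t x ∈ (Ideal.span {f₁, f₂}).map ψ := hIψ ▸ Ideal.subset_span rfl
    rw [Ideal.map_span, Set.image_pair] at htmem
    obtain ⟨α, β, hαβ⟩ := Ideal.mem_span_pair.1 htmem
    let N := max N₁ N₂
    let K : Ideal Γ(X', (U x).1) := LinearMap.ker (LinearMap.mulRight Γ(X', (U x).1) (t x ^ N * d m))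
    have hK : ∀ w, w ∈ K ↔ w * (t x ^ N * d m) = 0 := fun w => Iff.rfl
    have m₁ : ∀ (γ : Γ(X', (U x).1)) (g : Γ(X, ⊤)) (N₀ : ℕ), N₀ ≤ N → (t x * ψ g) ^ N₀ * d m = 0 → (γ * ψ g) ^ N ∈ K := by
      intro γ g N₀ hle h0
      rw [hK, show (γ * ψ g) ^ N * (t x ^ N * d m) = γ ^ N * ((t x * ψ g) ^ N * d m) by ring,
        show N = N - N₀ + N₀ by omega, pow_add (t x * ψ g), mul_assoc ((t x * ψ g) ^ (N - N₀)), h0, mul_zero, mul_zero]
    have hsum := Ideal.add_pow_mem_of_pow_mem_of_le (k := 2 * N) K (m₁ α f₁ N₁ (le_max_left _ _) hN₁)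
      (m₁ β f₂ N₂ (le_max_right _ _) hN₂) (by omega)
    rw [hαβ, hK, ← mul_assoc, ← pow_add] at hsum
    exact ⟨_, hsum⟩
  have hsq : ∀ m, d m * d m = 0 := by
    intro m
    obtain ⟨N, hN⟩ := htor m
    have hmem : d m ∈ Ideal.span {t x ^ N} := by
      rw [← pow_shift hd m N]
      obtain ⟨c, hc⟩ := Ideal.mem_span_singleton.1 (hdt (m + N))
      refine Ideal.mem_span_singleton.2 ?_
      rw [hc, mul_pow]
      exact Dvd.dvd.mul_right (pow_dvd_pow _ (Nat.lt_pow_self (Fact.out : p.Prime).one_lt).le) _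
    obtain ⟨c, hc⟩ := Ideal.mem_span_singleton.1 hmem
    calc d m * d m = t x ^ N * c * d m := by rw [← hc]
      _ = c * (t x ^ N * d m) := by ring
      _ = 0 := by rw [hN, mul_zero]
  have : d n = 0 := by
    rw [← hd n, show p = 2 + (p - 2) by have := (Fact.out : p.Prime).two_le; omega, pow_add, sq, hsq, zero_mul]
  exact sub_eq_zero.1 this

/-- Sections on the centre and on the almost blowing up glue uniquely. -/
theorem existsUnique_square {f₁ f₂ : Γ(X, ⊤)} (hI : i.ker.ideal ⟨⊤, isAffineOpen_top X⟩ = Ideal.span {f₁, f₂})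
    (hp : (p : Γ(X, ⊤)) = 0) (t : HTop.FrobLimSections p Z) (s' : HTop.FrobLimSections p X')
    (hts : HTop.FrobLimSections.map p π t = HTop.FrobLimSections.map p e s') :
    ∃! s : HTop.FrobLimSections p X, HTop.FrobLimSections.map p i s = t ∧ HTop.FrobLimSections.map p b s = s' := by
  haveI := h.isClosedImmersion
  haveI := h.finitePresentation
  haveI : IsAffine Z := isAffine_of_isAffineHom i
  obtain ⟨G, l₁, l₂, hl₁, hl₂, hov⟩ := exists_charts h.isBlowUp hI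
  have hsurj : Function.Surjective i.appTop.hom := (IsClosedImmersion.isAffine_surjective_of_isAffine i).2
  have hker : RingHom.ker i.appTop.hom = Ideal.span {f₁, f₂} := by
    rw [← hI, Scheme.Hom.ker_apply]
  -- the kernel is uniformly nilpotent
  obtain ⟨L, hL⟩ : ∃ L, 4 * G.D + 2 ≤ p ^ L := ⟨_, (Nat.lt_pow_self (Fact.out : p.Prime).one_lt).le⟩
  have hnil : ∀ x : Γ(X, ⊤), i.appTop x = 0 → evAt l₁ (b.appTop x) = 0 → evAt l₂ (b.appTop x) = 0 → x ^ p ^ L = 0 := by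
    intro x h0 e₁ e₂
    rw [← evAt_comp, hl₁, evAt_toX] at e₁
    rw [← evAt_comp, hl₂, evAt_toX] at e₂
    exact pow_eq_zero_of_le hL (G.pow_eq_zero (hker ▸ RingHom.mem_ker.2 h0) (Ideal.Quotient.eq_zero_iff_mem.1 e₁)
      (Ideal.Quotient.eq_zero_iff_mem.1 e₂))
  -- approximations
  choose c hc using fun n => hsurj (t.1 n)
  have hmem : ∀ {J : Ideal (Polynomial Γ(X, ⊤))} (l : Spec (CommRingCat.of (Polynomial Γ(X, ⊤) ⧸ J)) ⟶ X'),
      l ≫ b = toX chartMap → ∀ n, evAt l (s'.1 n) - chartMap (c n) ∈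
        (Ideal.span {f₁, f₂}).map (chartMap (J := J)) := by
    intro J l hl n
    let I' := (Ideal.span {f₁, f₂}).map (chartMap (J := J))
    let mk' : (Polynomial Γ(X, ⊤) ⧸ J) →+* ((Polynomial Γ(X, ⊤) ⧸ J) ⧸ I') := Ideal.Quotient.mk I'
    let φ' : Γ(X, ⊤) →+* (Polynomial Γ(X, ⊤) ⧸ J) ⧸ I' := mk'.comp chartMap
    have hφ' : RingHom.ker i.appTop.hom ≤ RingHom.ker φ' := fun y hy => by
      rw [RingHom.mem_ker]
      exact Ideal.Quotient.eq_zero_iff_mem.2 (Ideal.mem_map_of_mem _ (hker ▸ hy))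
    let χ : Γ(Z, ⊤) →+* (Polynomial Γ(X, ⊤) ⧸ J) ⧸ I' := RingHom.liftOfSurjective i.appTop.hom hsurj ⟨φ', hφ'⟩
    have hχ : ∀ y, χ (i.appTop.hom y) = φ' y := fun y =>
      RingHom.liftOfSurjective_comp_apply i.appTop.hom hsurj ⟨φ', hφ'⟩ y
    let q := Spec.map (CommRingCat.ofHom (R := Polynomial Γ(X, ⊤) ⧸ J) (S := (Polynomial Γ(X, ⊤) ⧸ J) ⧸ I') mk') ≫ l
    have hm : q ≫ b = toX χ ≫ i := by
      rw [Category.assoc, hl, map_toX]
      refine (eq_toX ?_).symm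
      rw [evAt_comp_ringHom, evAt_toX]
      exact RingHom.ext hχ
    let q' := h.isPullback.lift q (toX χ) hm
    have e1 : evAt q (s'.1 n) = χ (t.1 n) := by
      have h1 : e.appTop.hom (s'.1 n) = π.appTop.hom (t.1 n) := (congrArg (fun z => z.1 n) hts).symm
      rw [← h.isPullback.lift_fst q (toX χ) hm, evAt_comp, h1, ← evAt_comp, h.isPullback.lift_snd, evAt_toX]
    rw [evAt_map, RingHom.comp_apply, ← hc n, hχ] at e1
    exact Ideal.Quotient.eq.1 e1
  have hQ : ∀ (g₁ g₂ : Γ(X, ⊤)) {J : Ideal (Polynomial Γ(X, ⊤))} (z : Polynomial Γ(X, ⊤) ⧸ J),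
      eqn g₁ g₂ ∈ J → z ∈ (Ideal.span {g₁, g₂}).map (chartMap (J := J)) →
        ∃ Q, z = Ideal.Quotient.mk J (Polynomial.C g₁ * Q) := by
    intro g₁ g₂ J z hg hz
    rw [span_map_eq (chartMap (J := J)) (Ideal.Quotient.mk J Polynomial.X) (by
      show Ideal.Quotient.mk J (Polynomial.C g₁) * Ideal.Quotient.mk J Polynomial.X = Ideal.Quotient.mk J (Polynomial.C g₂)
      rw [← map_mul, Ideal.Quotient.eq]
      exact hg)] at hz
    obtain ⟨w, hw⟩ := Ideal.mem_span_singleton'.1 hz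
    obtain ⟨Q, rfl⟩ := Ideal.Quotient.mk_surjective w
    exact ⟨Q, by rw [map_mul, mul_comm, ← hw]; rfl⟩
  obtain ⟨M, hM⟩ : ∃ M, G.D + 2 ≤ p ^ M := ⟨_, (Nat.lt_pow_self (Fact.out : p.Prime).one_lt).le⟩
  have happrox : ∀ n, ∃ a : Γ(X, ⊤), i.appTop.hom a = t.1 n ^ p ^ M ∧
      evAt l₁ (b.appTop a) = evAt l₁ (s'.1 n) ^ p ^ M ∧ evAt l₂ (b.appTop a) = evAt l₂ (s'.1 n) ^ p ^ M := by
    intro n
    obtain ⟨Q₁, hQ₁⟩ := hQ f₁ f₂ (J := G.J₁) _ G.eqn₁ (hmem l₁ hl₁ n)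
    obtain ⟨Q₂, hQ₂⟩ := hQ f₂ f₁ (J := G.J₂) _ G.eqn₂ (by have := hmem l₂ hl₂ n; rwa [Set.pair_comm] at this)
    have hcompat : toLaurent (Polynomial.C f₁ * Q₁) - ι₂ (Polynomial.C f₂ * Q₂) ∈ G.J₀ := by
      have h1 := congrArg (fun g => evAt g (s'.1 n)) hov
      simp only [evAt_map, RingHom.comp_apply] at h1
      rw [sub_eq_iff_eq_add.1 hQ₁, sub_eq_iff_eq_add.1 hQ₂, map_add, map_add] at h1
      simp only [RingHom.comp_apply, Ideal.quotientMap_mk, ι₂_C, Polynomial.toLaurent_C] at h1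
      exact Ideal.Quotient.eq.1 (add_right_cancel h1)
    obtain ⟨α, hα, hα₁, hα₂⟩ := G.exists_scalar hcompat hM
    refine ⟨c n ^ p ^ M + α, ?_, ?_, ?_⟩
    · rw [map_add, map_pow, hc, RingHom.mem_ker.1 (hker ▸ hα), add_zero]
    · have hp₁ : (p : Polynomial Γ(X, ⊤) ⧸ G.J₁) = 0 := by rw [← map_natCast (chartMap (J := G.J₁)), hp, map_zero]
      rw [← evAt_comp, hl₁, evAt_toX, map_add, map_pow, show evAt l₁ (s'.1 n) ^ p ^ M =
        chartMap (c n) ^ p ^ M + (evAt l₁ (s'.1 n) - chartMap (c n)) ^ p ^ M by rw [sub_pow_p hp₁]; ring,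
        hQ₁, ← map_pow (Ideal.Quotient.mk G.J₁)]
      exact congrArg _ (Ideal.Quotient.eq.2 hα₁).symm
    · have hp₂ : (p : Polynomial Γ(X, ⊤) ⧸ G.J₂) = 0 := by rw [← map_natCast (chartMap (J := G.J₂)), hp, map_zero]
      rw [← evAt_comp, hl₂, evAt_toX, map_add, map_pow, show evAt l₂ (s'.1 n) ^ p ^ M =
        chartMap (c n) ^ p ^ M + (evAt l₂ (s'.1 n) - chartMap (c n)) ^ p ^ M by rw [sub_pow_p hp₂]; ring,
        hQ₂, ← map_pow (Ideal.Quotient.mk G.J₂)]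
      exact congrArg _ (Ideal.Quotient.eq.2 hα₂).symm
  choose a hat ha₁ ha₂ using happrox
  let y : ℕ → Γ(X, ⊤) := fun n => a (n + (M + L)) ^ p ^ L
  have hy : ∀ n, y (n + 1) ^ p = y n := by
    intro n
    show (a (n + 1 + (M + L)) ^ p ^ L) ^ p = a (n + (M + L)) ^ p ^ L
    have e0 : (a (n + 1 + (M + L)) ^ p - a (n + (M + L))) ^ p ^ L = 0 := by
      rw [show n + 1 + (M + L) = n + (M + L) + 1 by omega]
      refine hnil _ ?_ ?_ ?_
      · show i.appTop.hom _ = 0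
        rw [map_sub, map_pow, hat, hat, ← pow_mul, mul_comm, pow_mul, t.2, sub_self]
      · rw [map_sub, map_sub, map_pow, map_pow, ha₁, ha₁, ← pow_mul, mul_comm, pow_mul, ← map_pow, s'.2, sub_self]
      · rw [map_sub, map_sub, map_pow, map_pow, ha₂, ha₂, ← pow_mul, mul_comm, pow_mul, ← map_pow, s'.2, sub_self]
    rw [sub_pow_p hp, sub_eq_zero] at e0
    rw [← e0, ← pow_mul, ← pow_mul, mul_comm]
  have hyt : ∀ n, i.appTop.hom (y n) = t.1 n := fun n => by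
    rw [map_pow, hat, ← pow_mul, ← pow_add, pow_shift t.2]
  have hy₁ : ∀ n, evAt l₁ (b.appTop (y n)) = evAt l₁ (s'.1 n) := fun n => by
    rw [map_pow, map_pow, ha₁, ← pow_mul, ← pow_add, ← map_pow, pow_shift s'.2]
  have hy₂ : ∀ n, evAt l₂ (b.appTop (y n)) = evAt l₂ (s'.1 n) := fun n => by
    rw [map_pow, map_pow, ha₂, ← pow_mul, ← pow_add, ← map_pow, pow_shift s'.2]
  refine ⟨⟨y, hy⟩, ⟨HTop.FrobLimSections.ext hyt, ext_of_charts h hI hl₁ hl₂ hp (fun n => ?_) hy₁ hy₂⟩, ?_⟩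
  · show e.appTop.hom (b.appTop.hom (y n)) = e.appTop.hom (s'.1 n)
    have h1 : e.appTop.hom (s'.1 n) = π.appTop.hom (t.1 n) := (congrArg (fun z => z.1 n) hts).symm
    rw [h1, ← hyt n, ← CommRingCat.comp_apply, ← CommRingCat.comp_apply, ← Scheme.Hom.comp_appTop,
      ← Scheme.Hom.comp_appTop, h.isPullback.w]
  · rintro s ⟨hs₁, hs₂⟩
    refine HTop.FrobLimSections.ext fun n => ?_
    have e1 : ∀ m, i.appTop.hom (s.1 m) = t.1 m := fun m => congrArg (fun z => z.1 m) hs₁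
    have e2 : ∀ m, b.appTop.hom (s.1 m) = s'.1 m := fun m => congrArg (fun z => z.1 m) hs₂
    have hd : (s.1 (n + L) - y (n + L)) ^ p ^ L = 0 := by
      refine hnil _ ?_ ?_ ?_
      · show i.appTop.hom _ = 0
        rw [map_sub, e1, hyt, sub_self]
      · rw [map_sub, map_sub, hy₁]; erw [e2]; rw [sub_self]
      · rw [map_sub, map_sub, hy₂]; erw [e2]; rw [sub_self]
    rw [sub_pow_p hp, pow_shift s.2, pow_shift hy, sub_eq_zero] at hd
    exact hd

end FrobHLib
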